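import Cfsg.Agent.H970.TwoSporMathieu_mg_m3
import Cfsg.Agent.S0765
import Cfsg.Agent.SM.Glue_m3
import Cfsg.Agent.H410.ASLie
import Cfsg.Agent.H334.Star.Own
import Cfsg.Agent.H125.TwoReeSyl
import Cfsg.Agent.LieRecognition.ReeFinal
import Cfsg.Agent.OddCyclic.ClaimC.SzIso
import Cfsg.Agent.S1163
import Cfsg.Agent.S0330
import Cfsg.Agent.S0243
import Cfsg.Agent.HN.AutHS
import Cfsg.Agent.HN.Upper
import Cfsg.Agent.H561.PPRowL
import Cfsg.Agent.H220.EP.PermSeven
import Cfsg.Agent.FastGrp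
import Cfsg.Agent.Prune
set_option linter.all false
prune_inst 0x7fb9fdfbbdf87ddfffff7e7ffef9dffc39935fffefdffd4bffe0ebff0f9f03060fe5fb8f8de010fe1fd7e29410b87853fb7eceffe86bdc7ffffd5ff41ffbee5fe5ff350851dc9cb40ffc6fff9bf0778e7f3fffffffffffffffffffffffffffbeffffffffffff
open scoped Cfsg.Agent.FastGrp

-- part: SM/Alt/SpA
section
/-!
# SM, the 2-transitive actions of `Sp_2m(2)`: counting (helper23)

`Dv a v` : the transvection with centre `v ≠ 0` fixes the point `a`. `count` : of the three transvections of a hyperbolic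
line one fixes a given point, and the number of the transvections which fix a point.
-/

set_option autoImplicit false
set_option linter.unusedSectionVars false

namespace Cfsg.Agent.SM.Alt.Sp

open Cfsg Cfsg.Agent.ClassicalGeometry.SympBasic Cfsg.Agent.ClassicalGeometry.SympSiegel
  Cfsg.Agent.ClassicalGeometry.SympAutExists Cfsg.Agent.H387.TwoSpGeo Cfsg.Agent.H387.TwoSpA

theorem arith {y s c μ d ρ φ ψ : ℤ} (hy : 2 ≤ y) (hs : s = 1 ∨ s = -1) (hc : c = 8 * y ^ 2 + 2 * y * s) (hμ : 1 ≤ μ)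
    (hd : 0 ≤ d) (hψ : 0 ≤ ψ) (hψρ : ψ ≤ ρ) (e1 : 16 * y ^ 2 = d + 1 + (c - 1) * μ) (e2 : c * d = (16 * y ^ 2 - 1) * ρ)
    (e3 : ρ * d = φ * (8 * y ^ 2) + ψ * (8 * y ^ 2) + ρ - 2 * ψ) :
    (d = 16 * y ^ 2 - c ∧ 3 * ρ - 2 * φ = c) ∨ (ψ = 0 ∧ 4 ≤ d) := by
  have h0 : 0 < 16 * y ^ 2 - 1 := by nlinarith only [hy]
  have h1 : 0 < y ^ 2 := by positivity
  have h2 : μ = 1 ∨ μ = 2 := by
    have h3 : μ < 3 := by
      by_contra h
      have h4 : 0 ≤ (c - 1) * (μ - 3) := mul_nonneg (by rcases hs with rfl | rfl <;> nlinarith only [hy, h1, hc]) (by omega)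
      rcases hs with rfl | rfl <;> nlinarith only [hy, hd, e1, h1, h4, hc]
    omega
  rcases h2 with rfl | rfl
  · have h3 : d = 16 * y ^ 2 - c := by linarith only [e1]
    have h4 : ρ = 4 * y ^ 2 := by
      refine mul_left_cancel₀ h0.ne' ?_
      rw [← e2, h3, hc]
      rcases hs with rfl | rfl <;> ring
    obtain ⟨K, hK⟩ : ∃ K, K = φ + ψ - 4 * y ^ 2 + y * s := ⟨_, rfl⟩
    have h5 : ψ = 2 * y ^ 2 * (2 * K + 1) := by
      rw [h3, h4, hc] at e3
      rw [hK]
      linarith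
    have h6 : K = 0 := by
      have h7 : 0 ≤ K := by
        by_contra h
        have : 0 ≤ y ^ 2 * (-K - 1) := mul_nonneg h1.le (by omega)
        linarith only [hψ, h1, h5, this]
      have h8 : K ≤ 0 := by
        by_contra h
        have : 0 ≤ y ^ 2 * (K - 1) := mul_nonneg h1.le (by omega)
        linarith only [hψρ, h1, h4, h5, this]
      omega
    refine .inl ⟨h3, ?_⟩
    rw [h6] at h5 hK
    rw [h4, hc]
    linarith only [hK, h5]
  · rcases hs with rfl | rfl
    · exfalso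
      linarith only [hy, hd, e1, hc]
    · have h3 : d = 4 * y + 1 := by linarith
      have h4 : ρ = 2 * y := by
        refine mul_left_cancel₀ h0.ne' ?_
        rw [← e2, h3, hc]
        ring
      obtain ⟨K, hK⟩ : ∃ K, K = φ + ψ - 1 := ⟨_, rfl⟩
      have h5 : ψ = 4 * y ^ 2 * K := by
        rw [h3, h4] at e3
        rw [hK]
        linarith
      have h6 : K = 0 := by
        have h7 : 0 ≤ K := by
          by_contra h
          have : 0 ≤ y ^ 2 * (-K - 1) := mul_nonneg h1.le (by omega)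
          linarith only [hψ, h1, h5, this]
        have h8 : K ≤ 0 := by
          by_contra h
          have : 0 ≤ y ^ 2 * (K - 1) := mul_nonneg h1.le (by omega)
          nlinarith only [hy, hψρ, h4, h5, this]
        omega
      exact .inr ⟨by rw [h5, h6, mul_zero], by omega⟩

variable {F : Type} [Field F] [Fintype F] {m : ℕ}

local notation "V" => (Fin m ⊕ Fin m → F)
local notation "S" => Matrix.symplecticGroup (Fin m) F
local notation "f" => sympForm m F

section Two

variable (hF : Fintype.card F = 2)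
include hF

theorem zero_or_one (x : F) : x = 0 ∨ x = 1 := by
  classical
  by_contra h
  push Not at h
  have h1 : ({0, 1, x} : Finset F).card = 3 :=
    Finset.card_eq_three.2 ⟨0, 1, x, zero_ne_one, h.1.symm, h.2.symm, rfl⟩
  have h2 := Finset.card_le_univ ({0, 1, x} : Finset F)
  omega

theorem one_of_ne {x : F} (h : x ≠ 0) : x = 1 := (zero_or_one hF x).resolve_left h

theorem two_eq : (2 : F) = 0 := by
  have h := FiniteField.cast_card_eq_zero F
  rw [hF] at h
  exact_mod_cast h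

theorem add_self (x : F) : x + x = 0 := by rw [← two_mul, two_eq hF, zero_mul]

theorem vadd_self (v : V) : v + v = 0 := funext fun i => add_self hF (v i)

theorem form_comm (u v : V) : f u v = f v u := by
  rw [sympForm_swap, neg_eq_iff_add_eq_zero, add_self hF]

theorem not_smul {v w : V} (h0 : w ≠ 0) (h1 : w ≠ v) (a : F) : w ≠ a • v := by
  rcases zero_or_one hF a with rfl | rfl
  · rwa [zero_smul]
  · rwa [one_smul]

end Two

/-- the transvection with centre `v` -/
def tv (v : V) : S := transv v 1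

theorem tv_smul (v x : V) : tv v • x = x + f x v • v := by rw [tv, transv_smul, one_mul]

theorem tv_conj (g : S) (v : V) : g * tv v * g⁻¹ = tv (g • v) := conj_transv g v 1

theorem tv_zero : tv (0 : V) = 1 := ext_smul fun x => by rw [tv_smul, smul_zero, add_zero, one_smul]

theorem tv_tv (hF : Fintype.card F = 2) (v : V) : tv v * tv v = 1 := by
  rw [tv, transv_mul, add_self hF, transv_zero]

/-- the basis vectors of a totally isotropic subspace -/
def eb (i : Fin m) : V := Pi.single (Sum.inl i) 1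

theorem eb_apply (i j : Fin m) : (eb i : V) (Sum.inl j) = if j = i then 1 else 0 := by
  simp only [eb, Pi.single_apply, Sum.inl.injEq]

theorem form_eb (i j : Fin m) : f (eb i) (eb j) = 0 := by
  rw [eb, sympForm_single_inl_left, eb, Pi.single_eq_of_ne Sum.inr_ne_inl, neg_zero]

theorem eb_ne_zero (i : Fin m) : (eb i : V) ≠ 0 := fun h => by
  have h1 := congrFun h (Sum.inl i)
  rw [eb_apply, if_pos rfl] at h1
  exact one_ne_zero h1

theorem eb_ne {i j : Fin m} (h : i ≠ j) : (eb i : V) ≠ eb j := fun h1 => by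
  have h2 := congrFun h1 (Sum.inl i)
  rw [eb_apply, eb_apply, if_pos rfl, if_neg h] at h2
  exact one_ne_zero h2

variable {Δ : Type} [MulAction (Matrix.symplecticGroup (Fin m) F) Δ]

/-- the transvection with centre `v` fixes `a` -/
def Dv (a : Δ) (v : V) : Prop := v ≠ 0 ∧ tv v • a = a

theorem tv_smul_iff (g : S) (v : V) (a b : Δ) : tv (g • v) • g • a = g • b ↔ tv v • a = b := by
  rw [← tv_conj, mul_smul, mul_smul, inv_smul_smul, smul_left_cancel_iff]

theorem Dv_smul (g : S) (a : Δ) (v : V) : Dv (g • a) (g • v) ↔ Dv a v :=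
  and_congr (smul_eq_zero_iff' g v).not (tv_smul_iff g v a a)

theorem Dv.add {a : Δ} {u v : V} (hu : Dv a u) (hv : Dv a v) (h : f u v = 1) : Dv a (u + v) := by
  have h1 := (Dv_smul (tv v) a u).2 hu
  rwa [hv.2, tv_smul, h, one_smul] at h1

open Classical in
/-- the indicator function of `Dv` -/
noncomputable def χ (a : Δ) (v : V) : ℤ := if Dv a v then 1 else 0

theorem χ_smul (g : S) (a : Δ) (v : V) : χ (g • a) (g • v) = χ a v := by
  rw [χ, χ, propext (Dv_smul g a v)]

theorem χ_pos {a : Δ} {v : V} (h : Dv a v) : χ a v = 1 := if_pos h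

theorem χ_neg {a : Δ} {v : V} (h : ¬ Dv a v) : χ a v = 0 := if_neg h

theorem χ_zero (a : Δ) : χ a (0 : V) = 0 := χ_neg fun h => h.1 rfl

theorem χ_nonneg (a : Δ) (v : V) : 0 ≤ χ a v := by
  by_cases h : Dv a v
  · rw [χ_pos h]; exact zero_le_one
  · rw [χ_neg h]

theorem χ_le_one (a : Δ) (v : V) : χ a v ≤ 1 := by
  by_cases h : Dv a v
  · rw [χ_pos h]
  · rw [χ_neg h]; exact zero_le_one

theorem χ_sq (a : Δ) (v : V) : χ a v * χ a v = χ a v := by
  by_cases h : Dv a v
  · rw [χ_pos h, mul_one]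
  · rw [χ_neg h, mul_zero]

theorem exists_move (hF : Fintype.card F = 2) {a : Δ} {g : S} (h : g • a ≠ a) : ∃ v : V, tv v • a ≠ a := by
  by_contra h1
  push Not at h1
  refine h (show g ∈ MulAction.stabilizer S a from (Subgroup.closure_le _).2 ?_ ((S0765.result (F := F) m).ge trivial))
  rintro A ⟨w, c, hA⟩
  obtain rfl : A = transv w c := Subtype.ext hA
  rcases zero_or_one hF c with rfl | rfl
  · rw [transv_zero]
    exact one_mem _
  · exact h1 w

/-- the action is 2-transitive -/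
def Two (F : Type) [Field F] (m : ℕ) (Δ : Type) [MulAction (Matrix.symplecticGroup (Fin m) F) Δ] : Prop :=
  ∀ a b x y : Δ, a ≠ b → x ≠ y → ∃ g : Matrix.symplecticGroup (Fin m) F, g • a = x ∧ g • b = y

theorem Two.one [Nontrivial Δ] (h : Two F m Δ) (a x : Δ) : ∃ g : S, g • a = x :=
  let ⟨b, hb⟩ := exists_ne a
  let ⟨y, hy⟩ := exists_ne x
  let ⟨g, hg, _⟩ := h a b x y hb.symm hy.symm
  ⟨g, hg⟩

theorem Two.exists_tv (hF : Fintype.card F = 2) (h : Two F m Δ) {a b : Δ} (hab : a ≠ b) : ∃ v : V, tv v • a = b := by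
  obtain ⟨g, hg, -⟩ := h a b b a hab hab.symm
  obtain ⟨v, hv⟩ := exists_move hF (show g • a ≠ a from hg ▸ hab.symm)
  obtain ⟨k, h1, h2⟩ := h a _ a b hv.symm hab
  refine ⟨k • v, ?_⟩
  rw [← h2, ← (tv_smul_iff k v a _).2 rfl, h1]

theorem sum_perp (hF : Fintype.card F = 2) {y : ℤ} (hy : (2 : ℤ) ^ (2 * m) = 16 * y ^ 2) {u : V} (hu : u ≠ 0)
    [DecidableEq F] : ∑ v : V, (if f u v = 0 then (1 : ℤ) else 0) = 8 * y ^ 2 := by
  have h1 := card_perp_mul hu
  rw [hF, Nat.card_eq_fintype_card, Fintype.card_subtype] at h1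
  have h2 : (((Finset.univ.filter fun x : V => f u x = 0).card : ℤ)) * 2 = 2 ^ (2 * m) := by exact_mod_cast h1
  rw [Finset.sum_boole]
  linarith

/-- **the counting argument** -/
theorem count [Fintype Δ] (hF : Fintype.card F = 2) (hm : 2 ≤ m) {y s : ℤ} (hy : 2 ≤ y)
    (hn : (2 : ℤ) ^ (2 * m) = 16 * y ^ 2) (hs : s = 1 ∨ s = -1) (hc : (Fintype.card Δ : ℤ) = 8 * y ^ 2 + 2 * y * s)
    (h2 : Two F m Δ) (a : Δ) : ∑ v : V, χ a v = 16 * y ^ 2 - Fintype.card Δ ∧
      ∀ u v : V, f u v = 1 → Dv a u ∨ Dv a v ∨ Dv a (u + v) := by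
  classical
  have hV : (Fintype.card V : ℤ) = 16 * y ^ 2 := by
    rw [← Nat.card_eq_fintype_card, card_V, hF, ← hn]
    push_cast
    rfl
  have : Nontrivial Δ := Fintype.one_lt_card_iff_nontrivial.1 (by
    have : (1 : ℤ) < Fintype.card Δ := by rcases hs with rfl | rfl <;> nlinarith only [hy, hc, _root_.sq_nonneg (y : ℤ)]
    exact_mod_cast this)
  obtain ⟨b₀, hb₀⟩ := exists_ne a
  obtain ⟨u₀, w₀, hu₀, hw₀, hne, huw⟩ : ∃ u₀ w₀ : V, u₀ ≠ 0 ∧ w₀ ≠ 0 ∧ w₀ ≠ u₀ ∧ f u₀ w₀ = 0 :=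
    ⟨eb ⟨0, by omega⟩, eb ⟨1, by omega⟩, eb_ne_zero _, eb_ne_zero _, eb_ne (by simp), form_eb _ _⟩
  obtain ⟨v₀, hv₀⟩ := exists_form_eq_one hu₀
  obtain ⟨d, hd⟩ : ∃ d, d = ∑ v : V, χ a v := ⟨_, rfl⟩
  obtain ⟨ρ, hρ⟩ : ∃ ρ, ρ = ∑ x : Δ, χ x u₀ := ⟨_, rfl⟩
  obtain ⟨φ, hφ⟩ : ∃ φ, φ = ∑ x : Δ, χ x u₀ * χ x v₀ := ⟨_, rfl⟩
  obtain ⟨ψ, hψ⟩ : ∃ ψ, ψ = ∑ x : Δ, χ x u₀ * χ x w₀ := ⟨_, rfl⟩
  obtain ⟨μ, hμ⟩ : ∃ μ, μ = ∑ v : V, if tv v • a = b₀ then (1 : ℤ) else 0 := ⟨_, rfl⟩
  have d1 : ∀ x : Δ, ∑ v : V, χ x v = d := fun x => by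
    obtain ⟨g, rfl⟩ := h2.one a x
    rw [hd, ← sum_comm_smul g fun v : V => χ (g • a) v]
    exact Finset.sum_congr rfl fun v _ => χ_smul g a v
  have r1 : ∀ u : V, u ≠ 0 → ∑ x : Δ, χ x u = ρ := fun u hu => by
    obtain ⟨g, rfl⟩ := exists_smul_eq' hu₀ hu
    rw [hρ, ← sum_comm_smul g fun x : Δ => χ x (g • u₀)]
    exact Finset.sum_congr rfl fun x _ => χ_smul g x u₀
  have p0 : ∀ (g : S) (u v : V), ∑ x : Δ, χ x (g • u) * χ x (g • v) = ∑ x : Δ, χ x u * χ x v := fun g u v => by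
    rw [← sum_comm_smul g fun x : Δ => χ x (g • u) * χ x (g • v)]
    exact Finset.sum_congr rfl fun x _ => by rw [χ_smul, χ_smul]
  have p1 : ∀ u v : V, f u v = 1 → ∑ x : Δ, χ x u * χ x v = φ := fun u v h => by
    obtain ⟨g, -, h3, h4⟩ := exists_transvGroup_hyperbolic hv₀ h
    rw [hφ, ← p0 g u₀ v₀, show g • u₀ = u from h3, show g • v₀ = v from h4]
  have p2 : ∀ u v : V, u ≠ 0 → v ≠ 0 → v ≠ u → f u v = 0 → ∑ x : Δ, χ x u * χ x v = ψ := fun u v h3 h4 h5 h6 => by
    obtain ⟨g, rfl, rfl⟩ := exists_perp hu₀ h3 (not_smul hF hw₀ hne) (not_smul hF h4 h5) huw h6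
    rw [hψ, p0]
  have m1 : ∀ b, b ≠ a → ∑ v : V, (if tv v • a = b then (1 : ℤ) else 0) = μ := fun b hb => by
    obtain ⟨g, h3, rfl⟩ := h2 a b₀ a b hb₀.symm hb.symm
    rw [hμ, ← sum_comm_smul g fun v : V => if tv v • a = g • b₀ then (1 : ℤ) else 0]
    refine Finset.sum_congr rfl fun v _ => if_congr ?_ rfl rfl
    rw [← tv_smul_iff g v a b₀, h3]
  have m2 : ∑ v : V, (if tv v • a = a then (1 : ℤ) else 0) = d + 1 := by
    have h3 : ∀ v : V, (if tv v • a = a then (1 : ℤ) else 0) = χ a v + if v = 0 then 1 else 0 := fun v => by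
      by_cases hv : v = 0
      · rw [hv, tv_zero, one_smul, χ_zero, if_pos rfl, if_pos rfl, zero_add]
      · rw [if_neg hv, add_zero, χ]
        exact if_congr (and_iff_right hv).symm rfl rfl
    rw [Finset.sum_congr rfl fun v _ => h3 v, Finset.sum_add_distrib, ← hd, Finset.sum_ite_eq', if_pos (Finset.mem_univ _)]
  have e1 : 16 * y ^ 2 = d + 1 + (Fintype.card Δ - 1) * μ := by
    have h3 : ∀ b : Δ, ∑ v : V, (if tv v • a = b then (1 : ℤ) else 0) = μ + if b = a then d + 1 - μ else 0 := fun b => by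
      by_cases hb : b = a
      · rw [hb, m2, if_pos rfl]; ring
      · rw [m1 b hb, if_neg hb, add_zero]
    have h4 : ∑ b : Δ, ∑ v : V, (if tv v • a = b then (1 : ℤ) else 0) = 16 * y ^ 2 := by
      rw [Finset.sum_comm, Finset.sum_congr rfl fun v _ => Finset.sum_ite_eq Finset.univ (tv v • a) fun _ => (1 : ℤ)]
      simp only [Finset.mem_univ, if_true, Finset.sum_const, Finset.card_univ, nsmul_eq_mul, mul_one, hV]
    rw [Finset.sum_congr rfl fun b _ => h3 b, Finset.sum_add_distrib, Finset.sum_ite_eq', if_pos (Finset.mem_univ _),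
      Finset.sum_const, Finset.card_univ, nsmul_eq_mul] at h4
    linarith only [h4]
  have e2 : Fintype.card Δ * d = (16 * y ^ 2 - 1) * ρ := by
    have h3 : ∀ v : V, ∑ x : Δ, χ x v = ρ - if v = 0 then ρ else 0 := fun v => by
      by_cases hv : v = 0
      · rw [if_pos hv, hv, sub_self]
        exact Finset.sum_eq_zero fun x _ => χ_zero x
      · rw [if_neg hv, sub_zero, r1 v hv]
    have h4 : ∑ x : Δ, ∑ v : V, χ x v = ∑ v : V, ∑ x : Δ, χ x v := Finset.sum_comm
    rw [Finset.sum_congr rfl fun x _ => d1 x, Finset.sum_congr rfl fun v _ => h3 v, Finset.sum_sub_distrib,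
      Finset.sum_ite_eq', if_pos (Finset.mem_univ _), Finset.sum_const, Finset.sum_const, Finset.card_univ,
      Finset.card_univ, nsmul_eq_mul, nsmul_eq_mul, hV] at h4
    linarith only [h4]
  have e3 : ρ * d = φ * (8 * y ^ 2) + ψ * (8 * y ^ 2) + ρ - 2 * ψ := by
    have h3 : ∀ v : V, ∑ x : Δ, χ x u₀ * χ x v = φ + (ψ - φ) * (if f u₀ v = 0 then 1 else 0) +
        (if v = u₀ then ρ - ψ else 0) - if v = 0 then ψ else 0 := fun v => by
      by_cases h0 : v = 0
      · rw [h0, sympForm_zero_right, if_pos rfl, if_neg hu₀.symm, if_pos rfl,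
          Finset.sum_eq_zero fun x _ => by rw [χ_zero, mul_zero]]
        ring
      by_cases h1 : v = u₀
      · rw [h1, sympForm_self, if_pos rfl, if_pos rfl, if_neg hu₀, Finset.sum_congr rfl fun x _ => χ_sq x u₀, ← hρ]
        ring
      by_cases h4 : f u₀ v = 0
      · rw [if_pos h4, if_neg h1, if_neg h0, p2 u₀ v hu₀ h0 h1 h4]
        ring
      · rw [if_neg h4, if_neg h1, if_neg h0, p1 u₀ v (one_of_ne hF h4)]
        ring
    have h4 : ∑ x : Δ, ∑ v : V, χ x u₀ * χ x v = ∑ v : V, ∑ x : Δ, χ x u₀ * χ x v := Finset.sum_comm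
    rw [Finset.sum_congr rfl fun x _ => (Finset.mul_sum _ _ _).symm.trans (congrArg _ (d1 x)), ← Finset.sum_mul, ← hρ,
      Finset.sum_congr rfl fun v _ => h3 v, Finset.sum_sub_distrib, Finset.sum_add_distrib, Finset.sum_add_distrib,
      ← Finset.mul_sum, sum_perp hF hn hu₀, Finset.sum_ite_eq', Finset.sum_ite_eq', if_pos (Finset.mem_univ _),
      if_pos (Finset.mem_univ _), Finset.sum_const, Finset.card_univ, nsmul_eq_mul, hV] at h4
    linarith only [h4]
  have n1 : 1 ≤ μ := by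
    obtain ⟨v, hv⟩ := h2.exists_tv hF hb₀.symm
    have h0 : ∀ w ∈ (Finset.univ : Finset V), 0 ≤ if tv w • a = b₀ then (1 : ℤ) else 0 := fun w _ => by
      split_ifs <;> omega
    have h3 := Finset.single_le_sum h0 (Finset.mem_univ v)
    rwa [if_pos hv, ← hμ] at h3
  rcases arith hy hs hc n1 (hd ▸ Finset.sum_nonneg fun v _ => χ_nonneg a v)
    (hψ ▸ Finset.sum_nonneg fun x _ => mul_nonneg (χ_nonneg x _) (χ_nonneg x _))
    (hψ ▸ hρ ▸ Finset.sum_le_sum fun x _ => mul_le_of_le_one_right (χ_nonneg x _) (χ_le_one x _)) e1 e2 e3 with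
    ⟨h3, h4⟩ | ⟨h3, h4⟩
  · refine ⟨hd ▸ h3, fun u v h => ?_⟩
    have h5 : f u v ≠ 0 := h ▸ one_ne_zero
    have h6 : f u (u + v) = 1 := by rw [sympForm_add_right, sympForm_self, zero_add, h]
    have h7 : f (u + v) v = 1 := by rw [sympForm_add_left, sympForm_self, add_zero, h]
    have h8 : ∀ x : Δ, χ x u + χ x v + χ x (u + v) - 2 * (χ x u * χ x v) ≤ 1 := fun x => by
      by_cases a1 : Dv x u <;> by_cases a2 : Dv x v
      · rw [χ_pos a1, χ_pos a2, χ_pos (a1.add a2 h)]; omega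
      · rw [χ_pos a1, χ_neg a2, χ_neg fun a3 => a2 (by
          have := a1.add a3 h6
          rwa [← add_assoc, vadd_self hF, zero_add] at this)]
        omega
      · rw [χ_neg a1, χ_pos a2, χ_neg fun a3 => a1 (by
          have := a3.add a2 h7
          rwa [add_assoc, vadd_self hF, add_zero] at this)]
        omega
      · rw [χ_neg a1, χ_neg a2]
        have := χ_le_one x (u + v)
        omega
    have h9 := (Finset.sum_eq_sum_iff_of_le (s := Finset.univ) fun x _ => h8 x).1 (by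
      rw [Finset.sum_sub_distrib, Finset.sum_add_distrib, Finset.sum_add_distrib, ← Finset.mul_sum, p1 u v h,
        r1 u (ne_zero_of_form_left h5), r1 v (ne_zero_of_form_right h5),
        r1 (u + v) (ne_zero_of_form_left (h7 ▸ one_ne_zero)), Finset.sum_const, Finset.card_univ, nsmul_eq_mul]
      linarith only [h4]) a (Finset.mem_univ a)
    by_contra h10
    push Not at h10
    rw [χ_neg h10.1, χ_neg h10.2.1, χ_neg h10.2.2] at h9
    omega
  · exfalso
    have h5 : ∀ u v : V, Dv a u → Dv a v → v ≠ u → f u v = 1 := fun u v hu hv h => one_of_ne hF fun h0 => by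
      have h6 : χ a u * χ a v ≤ ∑ x : Δ, χ x u * χ x v :=
        Finset.single_le_sum (fun x _ => mul_nonneg (χ_nonneg x u) (χ_nonneg x v)) (Finset.mem_univ a)
      rw [p2 u v hu.1 hv.1 h h0, χ_pos hu, χ_pos hv] at h6
      omega
    have h6 : 4 ≤ (Finset.univ.filter fun v : V => Dv a v).card := by
      have h7 : ((Finset.univ.filter fun v : V => Dv a v).card : ℤ) = d := by
        rw [hd, ← Finset.sum_boole]
        exact Finset.sum_congr rfl fun v _ => by rw [χ]
      omega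
    obtain ⟨u, hu, v, hv, huv⟩ := Finset.one_lt_card.1 (show 1 < _ from lt_of_lt_of_le (by decide) h6)
    obtain ⟨w, hw, h7⟩ := Finset.exists_mem_notMem_of_card_lt_card
      (lt_of_le_of_lt (Finset.card_le_three (a := u) (b := v) (c := u + v)) h6)
    simp only [Finset.mem_filter, Finset.mem_univ, true_and, Finset.mem_insert, Finset.mem_singleton, not_or] at hu hv hw h7
    have h8 := h5 _ w (hu.add hv (h5 u v hu hv huv.symm)) hw h7.2.2
    rw [sympForm_add_left, h5 u w hu hw h7.1, h5 v w hv hw h7.2.1, add_self hF] at h8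
    exact zero_ne_one h8

end Cfsg.Agent.SM.Alt.Sp
end

-- part: SM/Alt/SpB
section
/-!
# SM, the 2-transitive actions of `Sp_2m(2)`: the quadratic forms (helper23)

`boxSp : BoxSp`.
-/

set_option autoImplicit false
set_option linter.unusedSectionVars false

namespace Cfsg.Agent.SM.Alt

namespace Sp

open Cfsg Cfsg.Agent.ClassicalGeometry.SympBasic Cfsg.Agent.ClassicalGeometry.SympSiegel
  Cfsg.Agent.ClassicalGeometry.SympAutExists Cfsg.Agent.H387.TwoSpGeo

variable {F : Type} [Field F] [Fintype F] {m : ℕ}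

local notation "V" => (Fin m ⊕ Fin m → F)
local notation "S" => Matrix.symplecticGroup (Fin m) F
local notation "f" => sympForm m F

theorem exists_form (L : V →ₗ[F] F) : ∃ w : V, ∀ x, f x w = L x := by
  refine ⟨Sum.elim (fun i => L (Pi.single (Sum.inr i) 1)) fun i => -L (Pi.single (Sum.inl i) 1), fun x => ?_⟩
  refine LinearMap.congr_fun (g := L) ((Pi.basisFun F _).ext fun j => ?_ : (sympBilin m F).flip _ = L) x
  rw [Pi.basisFun_apply, LinearMap.flip_apply, sympBilin_apply]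
  rcases j with i | i
  · rw [sympForm_single_inl_left, Sum.elim_inr, neg_neg]
  · rw [sympForm_single_inr_left, Sum.elim_inl]

theorem exists_both (hF : Fintype.card F = 2) {x u u' : V} (hx : x ≠ 0) (h1 : u ≠ 0) (h2 : u ≠ x) (h3 : u' ≠ 0)
    (h4 : u' ≠ x) : ∃ z, f x z = 0 ∧ f u z = 1 ∧ f u' z = 1 := by
  obtain ⟨a, ha, ha'⟩ := LieClassical.SympSimple.exists_perp_of_not_smul hx (not_smul hF h1 h2)
  obtain ⟨b, hb, hb'⟩ := LieClassical.SympSimple.exists_perp_of_not_smul hx (not_smul hF h3 h4)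
  by_cases h5 : f u' a = 0
  · by_cases h6 : f u b = 0
    · exact ⟨a + b, by rw [sympForm_add_right, ha, hb, add_zero], by
        rw [sympForm_add_right, h6, add_zero, one_of_ne hF ha'], by rw [sympForm_add_right, h5, zero_add, one_of_ne hF hb']⟩
    · exact ⟨b, hb, one_of_ne hF h6, one_of_ne hF hb'⟩
  · exact ⟨a, ha, one_of_ne hF ha', one_of_ne hF h5⟩

/-- a function which is quadratic on the hyperbolic lines and has an even support is quadratic -/
theorem quad_of (hF : Fintype.card F = 2) {Q : V → F} (h0 : Q 0 = 0)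
    (h1 : ∀ u v, f u v = 1 → Q (u + v) = Q u + Q v + 1) (h2 : ∑ v, Q v = 0) (u v : V) :
    Q (u + v) = Q u + Q v + f u v := by
  classical
  have t := two_eq hF
  have k1 : ∀ x u w, f x w = 0 → f x u = 0 → f u w = 1 → Q (x + u) + Q u = Q (x + w) + Q w := fun x u w h3 h4 h5 => by
    have h6 := h1 (x + u) w (by rw [sympForm_add_left, h3, h5, zero_add])
    have h7 := h1 u (x + w) (by rw [sympForm_add_right, form_comm hF, h4, h5, zero_add])
    rw [show u + (x + w) = x + u + w by abel, h6] at h7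
    linear_combination h7 + (Q u - Q w) * t
  have k2 : ∀ x u, Q x = 1 → f x u = 0 → Q (x + u) = Q u + 1 := fun x u hx h3 => by
    have hx0 : x ≠ 0 := fun h => zero_ne_one (h0.symm.trans (h ▸ hx))
    by_cases a1 : u = 0
    · rw [a1, add_zero, hx, h0, zero_add]
    by_cases a2 : u = x
    · rw [a2, vadd_self hF, hx, h0, add_self hF]
    by_contra h4
    have h5 : Q (x + u) + Q u = 0 := (zero_or_one hF _).resolve_right fun h => h4 (by
      linear_combination h - Q u * t)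
    have h6 : ∀ w, (Q w + if w = x then 1 else 0) + (Q (x + w) + if x + w = x then 1 else 0) = 0 := fun w => by
      by_cases b1 : w = 0
      · rw [b1, add_zero x, if_neg hx0.symm, if_pos rfl, h0, hx, add_zero, zero_add, add_self hF]
      by_cases b2 : w = x
      · rw [b2, vadd_self hF, if_neg hx0.symm, if_pos rfl, h0, hx, add_zero, add_zero, add_self hF]
      rw [if_neg b2, if_neg (by rwa [add_eq_left]), add_zero, add_zero, add_comm]
      rcases zero_or_one hF (f x w) with b3 | b3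
      · obtain ⟨z, z1, z2, z3⟩ := exists_both hF hx0 a1 a2 b1 b2
        rw [k1 x w z z1 b3 z3, ← k1 x u z z1 h3 z2, h5]
      · rw [h1 x w b3, hx]
        linear_combination (Q w + 1) * t
    have h7 := Finset.sum_involution (s := Finset.univ) (fun w _ => x + w) (fun w _ => h6 w)
      (fun w _ _ h => hx0 (add_eq_right.1 h)) (fun _ _ => Finset.mem_univ _)
      fun w _ => by rw [← add_assoc, vadd_self hF, zero_add]
    rw [Finset.sum_add_distrib, h2, Finset.sum_ite_eq', if_pos (Finset.mem_univ _), zero_add] at h7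
    exact one_ne_zero h7
  rcases zero_or_one hF (f u v) with h3 | h3
  · rw [h3, add_zero]
    rcases zero_or_one hF (Q u) with a1 | a1
    · rcases zero_or_one hF (Q v) with a2 | a2
      · rw [a1, a2, add_zero]
        refine (zero_or_one hF _).resolve_right fun a3 => ?_
        have h4 := k2 _ v a3 (by rw [sympForm_add_left, sympForm_self, h3, add_zero])
        rw [add_assoc, vadd_self hF, add_zero, a1, a2, zero_add] at h4
        exact zero_ne_one h4
      · rw [add_comm u, k2 v u a2 (by rw [form_comm hF, h3]), a2]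
    · rw [k2 u v a1 h3, a1, add_comm]
  · rw [h1 u v h3, h3]

variable {Δ : Type} [MulAction (Matrix.symplecticGroup (Fin m) F) Δ]

/-- the quadratic form of a point -/
noncomputable def Qf (a : Δ) (v : V) : F := (χ a v : F)

theorem Qf_pos {a : Δ} {v : V} (h : Dv a v) : Qf a v = 1 := by rw [Qf, χ_pos h, Int.cast_one]

theorem Qf_neg {a : Δ} {v : V} (h : ¬ Dv a v) : Qf a v = 0 := by rw [Qf, χ_neg h, Int.cast_zero]

theorem Qf_eq_one {a : Δ} {v : V} : Qf a v = 1 ↔ Dv a v :=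
  ⟨fun h => by_contra fun h1 => zero_ne_one ((Qf_neg h1).symm.trans h), Qf_pos⟩

theorem Qf_smul (g : S) (a : Δ) (v : V) : Qf (g • a) (g • v) = Qf a v := congrArg _ (χ_smul g a v)

theorem Qf_smul' (g : S) (a : Δ) (v : V) : Qf (g • a) v = Qf a (g⁻¹ • v) := by rw [← Qf_smul g a, smul_inv_smul]

/-- the points are quadratic forms -/
structure Gd (F : Type) [Field F] [Fintype F] (m : ℕ) (Δ : Type) [MulAction (Matrix.symplecticGroup (Fin m) F) Δ]
    (d : ℤ) : Prop where
  card : Fintype.card F = 2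
  ex : ∀ a b : Δ, ∃ v : Fin m ⊕ Fin m → F, Qf a v = 0 ∧ tv v • a = b
  quad : ∀ (a : Δ) (u v : Fin m ⊕ Fin m → F), Qf a (u + v) = Qf a u + Qf a v + sympForm m F u v
  sum : ∀ a : Δ, ∑ v : Fin m ⊕ Fin m → F, χ a v = d

theorem gd [Fintype Δ] (hF : Fintype.card F = 2) (hm : 2 ≤ m) {y s : ℤ} (hy : 2 ≤ y)
    (hn : (2 : ℤ) ^ (2 * m) = 16 * y ^ 2) (hs : s = 1 ∨ s = -1) (hc : (Fintype.card Δ : ℤ) = 8 * y ^ 2 + 2 * y * s)
    (h2 : Two F m Δ) : Gd F m Δ (8 * y ^ 2 - 2 * y * s) := by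
  have h3 : ∀ a : Δ, ∑ v : V, χ a v = 8 * y ^ 2 - 2 * y * s := fun a => by
    rw [(count hF hm hy hn hs hc h2 a).1, hc]
    ring
  refine ⟨hF, fun a b => ?_, fun a => quad_of hF (Qf_neg fun h => h.1 rfl) (fun u v h => ?_) ?_, h3⟩
  · by_cases h : a = b
    · exact ⟨0, Qf_neg fun h => h.1 rfl, by rw [tv_zero, one_smul, h]⟩
    · obtain ⟨v, hv⟩ := h2.exists_tv hF h
      exact ⟨v, Qf_neg fun h1 => h (h1.2.symm.trans hv), hv⟩
  · have h6 : f u (u + v) = 1 := by rw [sympForm_add_right, sympForm_self, zero_add, h]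
    have h7 : f (u + v) v = 1 := by rw [sympForm_add_left, sympForm_self, add_zero, h]
    by_cases a1 : Dv a u <;> by_cases a2 : Dv a v
    · rw [Qf_pos a1, Qf_pos a2, Qf_pos (a1.add a2 h), add_self hF, zero_add]
    · rw [Qf_pos a1, Qf_neg a2, add_zero, add_self hF]
      refine Qf_neg fun a3 => a2 ?_
      have := a1.add a3 h6
      rwa [← add_assoc, vadd_self hF, zero_add] at this
    · rw [Qf_neg a1, Qf_pos a2, zero_add, add_self hF]
      refine Qf_neg fun a3 => a1 ?_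
      have := a3.add a2 h7
      rwa [add_assoc, vadd_self hF, add_zero] at this
    · rw [Qf_neg a1, Qf_neg a2, add_zero, zero_add]
      exact Qf_pos ((((count hF hm hy hn hs hc h2 a).2 u v h).resolve_left a1).resolve_left a2)
  · have h4 := congrArg (Int.cast : ℤ → F) (h3 a)
    push_cast at h4
    refine h4.trans ?_
    linear_combination (4 * (y : F) ^ 2 - y * s) * two_eq hF

namespace Gd

variable {d : ℤ} (H : Gd F m Δ d)
include H

theorem tv_eq {a : Δ} {w : V} (h : Qf a w = 0) (x : V) : Qf (tv w • a) x = Qf a x + f x w := by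
  rw [Qf_smul', ← eq_inv_of_mul_eq_one_left (tv_tv H.card w), tv_smul]
  rcases zero_or_one H.card (f x w) with h1 | h1
  · rw [h1, zero_smul, add_zero, add_zero]
  · rw [h1, one_smul, H.quad, h, h1, add_zero]

theorem inj {a b : Δ} (h : ∀ x : V, Qf b x = Qf a x) : b = a := by
  obtain ⟨v, h1, rfl⟩ := H.ex a b
  rw [eq_zero_of_forall_sympForm_left (v := v) fun x => add_eq_left.1 ((H.tv_eq h1 x).symm.trans (h x)), tv_zero, one_smul]

theorem fix_iff (g : S) (a : Δ) : g • a = a ↔ ∀ x : V, Qf a (g⁻¹ • x) = Qf a x :=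
  ⟨fun h x => by rw [← Qf_smul', h], fun h => H.inj fun x => by rw [Qf_smul', h]⟩

theorem same {Δ' : Type} [MulAction (Matrix.symplecticGroup (Fin m) F) Δ'] (H' : Gd F m Δ' d)
    (hd : 2 * d ≠ Fintype.card V) (a : Δ) (a' : Δ') : ∃ b : Δ, ∀ g : S, g • b = b ↔ g • a' = a' := by
  have t := two_eq H.card
  obtain ⟨w, hw⟩ := exists_form
    { toFun := fun x : V => Qf a x + Qf a' x
      map_add' := fun u v => by
        rw [H.quad, H'.quad]
        linear_combination f u v * t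
      map_smul' := fun c x => by
        rcases zero_or_one H.card c with rfl | rfl
        · rw [zero_smul, Qf_neg fun h => h.1 rfl, Qf_neg fun h => h.1 rfl, RingHom.id_apply, zero_smul, add_zero]
        · rw [one_smul, RingHom.id_apply, one_smul] }
  have h1 : ∀ x, Qf a' x = Qf a x + f x w := fun x => by
    have h2 : f x w = Qf a x + Qf a' x := hw x
    linear_combination -h2 - Qf a x * t
  rcases zero_or_one H.card (Qf a w) with h2 | h2
  · refine ⟨tv w • a, fun g => ?_⟩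
    rw [H.fix_iff, H'.fix_iff]
    simp only [H.tv_eq h2, h1]
  · refine absurd ?_ hd
    have h3 : ∀ x : V, χ a' x + χ a (w + x) = 1 := fun x => by
      have h4 : Qf a (w + x) = Qf a' x + 1 := by
        rw [H.quad, h1, h2, form_comm H.card]
        ring
      by_cases h5 : Dv a' x
      · rw [χ_pos h5, χ_neg fun h6 => ?_, add_zero]
        rw [Qf_pos h5, Qf_pos h6, add_self H.card] at h4
        exact one_ne_zero h4
      · rw [Qf_neg h5, zero_add] at h4
        rw [χ_neg h5, χ_pos (Qf_eq_one.1 h4), zero_add]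
    have h4 := Finset.sum_congr (s₁ := Finset.univ) rfl fun x _ => h3 x
    rw [Finset.sum_add_distrib, H'.sum, 
      Fintype.sum_equiv (Equiv.addLeft w) (fun v => χ a (w + v)) (fun v => χ a v) fun _ => rfl, H.sum,
      Finset.sum_const, Finset.card_univ, nsmul_eq_mul, mul_one] at h4
    rw [← h4, two_mul]

theorem exists_perp_sing (hm : 3 ≤ m) (a : Δ) :
    ∃ v w : V, v ≠ 0 ∧ w ≠ 0 ∧ v ≠ w ∧ Qf a v = 0 ∧ Qf a w = 0 ∧ f v w = 0 := by
  have k : ∀ i j : Fin m, Qf a (eb j : V) = 1 → ∃ v : V, Qf a v = 0 ∧ (v = eb i ∨ v = eb i + eb j) := fun i j h => by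
    rcases zero_or_one H.card (Qf a (eb i : V)) with h1 | h1
    · exact ⟨_, h1, .inl rfl⟩
    · exact ⟨_, by rw [H.quad, h, h1, form_eb, add_zero, add_self H.card], .inr rfl⟩
  have k2 : ∀ i j l : Fin m, i ≠ j → i ≠ l → j ≠ l → Qf a (eb l : V) = 1 →
      ∃ v w : V, v ≠ 0 ∧ w ≠ 0 ∧ v ≠ w ∧ Qf a v = 0 ∧ Qf a w = 0 ∧ f v w = 0 := fun i j l h1 h2 h3 h => by
    obtain ⟨v, v1, v2⟩ := k i l h
    obtain ⟨w, w1, w2⟩ := k j l h
    have v3 : v (Sum.inl i) = 1 := by rcases v2 with rfl | rfl <;> simp [eb_apply, h2]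
    have w3 : w (Sum.inl j) = 1 := by rcases w2 with rfl | rfl <;> simp [eb_apply, h3]
    have w4 : w (Sum.inl i) = 0 := by rcases w2 with rfl | rfl <;> simp [eb_apply, h1, h2]
    refine ⟨v, w, fun h4 => ?_, fun h4 => ?_, fun h4 => ?_, v1, w1, ?_⟩
    · exact zero_ne_one ((congrFun h4 _).symm.trans v3)
    · exact zero_ne_one ((congrFun h4 _).symm.trans w3)
    · exact zero_ne_one (w4.symm.trans (h4 ▸ v3))
    · rcases v2 with rfl | rfl <;> rcases w2 with rfl | rfl <;>
        simp only [sympForm_add_left, sympForm_add_right, form_eb, add_zero]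
  rcases zero_or_one H.card (Qf a (eb ⟨0, by omega⟩ : V)) with h0 | h0
  · rcases zero_or_one H.card (Qf a (eb ⟨1, by omega⟩ : V)) with h1 | h1
    · exact ⟨_, _, eb_ne_zero _, eb_ne_zero _, eb_ne (by simp), h0, h1, form_eb _ _⟩
    · exact k2 ⟨0, by omega⟩ ⟨2, by omega⟩ _ (by simp) (by simp) (by simp) h1
  · exact k2 ⟨1, by omega⟩ ⟨2, by omega⟩ _ (by simp) (by simp) (by simp) h0

theorem not_hom3 (hm : 3 ≤ m) (a : Δ) : ¬ Hom3 S Δ := fun h => by
  have t := two_eq H.card
  obtain ⟨v, w, v0, w0, hvw, v1, w1, h1⟩ := H.exists_perp_sing hm a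
  obtain ⟨u, u1, u2⟩ : ∃ u : V, Qf a u = 0 ∧ f v u = 1 := by
    obtain ⟨x, hx⟩ := exists_form_eq_one v0
    rcases zero_or_one H.card (Qf a x) with h2 | h2
    · exact ⟨x, h2, hx⟩
    · exact ⟨v + x, by rw [H.quad, v1, h2, hx, zero_add, add_self H.card],
        by rw [sympForm_add_right, sympForm_self, zero_add, hx]⟩
  have k : ∀ p q : V, Qf a p = 0 → Qf a q = 0 → tv p • a = tv q • a → p = q := fun p q h2 h3 h4 =>
    eq_of_forall_sympForm_left fun x => add_left_cancel ((H.tv_eq h2 x).symm.trans (h4 ▸ H.tv_eq h3 x))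
  have k0 : ∀ p : V, Qf a p = 0 → p ≠ 0 → a ≠ tv p • a := fun p h2 h3 h4 =>
    h3 (k p 0 h2 (Qf_neg fun h => h.1 rfl) (by rw [tv_zero, one_smul, ← h4]))
  have u0 : u ≠ 0 := ne_zero_of_form_right (u2 ▸ one_ne_zero)
  have hvu : v ≠ u := fun h2 => zero_ne_one ((sympForm_self u).symm.trans (h2 ▸ u2))
  obtain ⟨g, g1, g2, g3⟩ := h a (tv v • a) (tv w • a) a (tv v • a) (tv u • a) (k0 v v1 v0) (k0 w w1 w0)
    (fun h2 => hvw (k v w v1 w1 h2)) (k0 v v1 v0) (k0 u u1 u0) fun h2 => hvu (k v u v1 u1 h2)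
  have h2 : ∀ x : V, Qf (g • tv (v + w) • a) x = Qf (g • a) x + Qf (g • tv v • a) x + Qf (g • tv w • a) x := fun x => by
    simp only [Qf_smul' g]
    rw [H.tv_eq v1, H.tv_eq w1, H.tv_eq (by rw [H.quad, v1, w1, h1, add_zero, add_zero]), sympForm_add_right]
    linear_combination -Qf a (g⁻¹ • x) * t
  have h3 : ∀ x : V, Qf (g • a) x + Qf (g • tv v • a) x + Qf (g • tv w • a) x =
      Qf a x + Qf (tv v • a) x + Qf (tv u • a) x := fun x => by
    have n1 : g • a ≠ g • tv v • a := fun h => k0 v v1 v0 (smul_left_cancel g h)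
    have n2 : g • a ≠ g • tv w • a := fun h => k0 w w1 w0 (smul_left_cancel g h)
    have n3 : g • tv v • a ≠ g • tv w • a := fun h => hvw (k v w v1 w1 (smul_left_cancel g h))
    generalize g • a = p at *
    generalize g • tv v • a = q at *
    generalize g • tv w • a = r at *
    rcases g1 with rfl | rfl | rfl <;> rcases g2 with rfl | rfl | rfl <;> rcases g3 with rfl | rfl | rfl <;>
      first | exact absurd rfl n1 | exact absurd rfl n2 | exact absurd rfl n3 | ring
  obtain ⟨z, z1, z2⟩ := H.ex a (g • tv (v + w) • a)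
  obtain rfl : z = v + u := eq_of_forall_sympForm_left fun x => by
    have h4 := (h2 x).trans (h3 x)
    rw [← z2, H.tv_eq z1, H.tv_eq v1, H.tv_eq u1] at h4
    rw [sympForm_add_right]
    linear_combination h4 + Qf a x * t
  rw [H.quad, v1, u1, u2, add_zero, zero_add] at z1
  exact one_ne_zero z1

end Gd

end Sp

open Sp

/-- **The 2-transitive actions of `Sp_2m(2)` on the quadratic forms.** -/
theorem boxSp : BoxSp := by
  rintro T _ F _ _ m c hF hm ⟨e⟩ hc
  obtain ⟨π, hπ⟩ : ∃ π : Matrix.symplecticGroup (Fin m) F →* T, Function.Surjective π :=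
    ⟨e.symm.toMonoidHom.comp (QuotientGroup.mk' _), e.symm.surjective.comp (QuotientGroup.mk'_surjective _)⟩
  obtain ⟨k, rfl⟩ : ∃ k, m = k + 3 := ⟨m - 3, by omega⟩
  obtain ⟨y, hy⟩ : ∃ y : ℤ, y = 2 ^ (k + 1) := ⟨_, rfl⟩
  have y2 : 2 ≤ y := by
    have : (0 : ℤ) < 2 ^ k := by positivity
    rw [hy, pow_succ]
    omega
  have hn : (2 : ℤ) ^ (2 * (k + 3)) = 16 * y ^ 2 := by rw [hy]; ring
  obtain ⟨s, hs, hc'⟩ : ∃ s : ℤ, (s = 1 ∨ s = -1) ∧ (c : ℤ) = 8 * y ^ 2 + 2 * y * s := by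
    rcases hc with rfl | rfl
    · exact ⟨1, .inl rfl, by rw [hy, show k + 3 - 1 = k + 2 from rfl]; push_cast; ring⟩
    · refine ⟨-1, .inr rfl, ?_⟩
      rw [hy, Nat.cast_mul, Nat.cast_sub Nat.one_le_two_pow, show k + 3 - 1 = k + 2 from rfl]
      push_cast
      ring
  have key : ∀ (Δ : Type) [MulAction T Δ], Act T Δ c → Nonempty Δ ∧
      @Gd F _ _ (k + 3) Δ (MulAction.compHom Δ π) (8 * y ^ 2 - 2 * y * s) := fun Δ _ h => by
    have := h.fin
    have := Fintype.ofFinite Δ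
    have h1 : (Fintype.card Δ : ℤ) = 8 * y ^ 2 + 2 * y * s := by rw [← Nat.card_eq_fintype_card, h.card, hc']
    refine ⟨Fintype.card_pos_iff.1 ?_, ?_⟩
    · have : (0 : ℤ) < Fintype.card Δ := by rcases hs with rfl | rfl <;> nlinarith only [y2, h1, _root_.sq_nonneg (y : ℤ)]
      exact_mod_cast this
    · letI := MulAction.compHom Δ π
      refine gd hF (by omega) y2 hn hs h1 fun a b x z h2 h3 => ?_
      obtain ⟨t, ht⟩ := h.two a b x z h2 h3
      obtain ⟨g, rfl⟩ := hπ t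
      exact ⟨g, ht⟩
  refine ⟨fun Δ₁ Δ₂ _ _ h1 h2 => ?_, fun Δ _ h h3 => ?_⟩
  · obtain ⟨⟨a⟩, H⟩ := key Δ₁ h1
    obtain ⟨⟨a'⟩, H'⟩ := key Δ₂ h2
    letI := MulAction.compHom Δ₁ π
    letI := MulAction.compHom Δ₂ π
    obtain ⟨b, hb⟩ := H.same H' (by
      rw [← Nat.card_eq_fintype_card, H387.TwoSpGeo.card_V, hF]
      push_cast
      rw [hn]
      rcases hs with rfl | rfl <;> intro h <;> linarith only [y2, h]) a a'
    refine ⟨b, a', fun t => ?_⟩
    obtain ⟨g, rfl⟩ := hπ t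
    exact hb g
  · obtain ⟨⟨a⟩, H⟩ := key Δ h
    letI := MulAction.compHom Δ π
    refine H.not_hom3 (by omega) a fun a b e x z w h4 h5 h6 h7 h8 h9 => ?_
    obtain ⟨t, ht⟩ := h3 a b e x z w h4 h5 h6 h7 h8 h9
    obtain ⟨g, rfl⟩ := hπ t
    exact ⟨g, ht⟩

end Cfsg.Agent.SM.Alt
end

-- part: SM/Alt/R1
section
/-!
# SM (S3570), alternating socle: the Sylow subgroups of the groups of Lie rank one (helper39)
-/

set_option autoImplicit false

namespace Cfsg.Agent.SM.Alt

open Cfsg CoxeterSystem Cfsg.Agent.Nodes.Reps Cfsg.Agent.Nodes.BNOf Cfsg.Agent.Nodes.Bruhat Cfsg.Agent.Omega.ML.Ex.Typ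
open Cfsg.Agent.H800.Sp (NotAb)

namespace R1B

/-- Bruhat decomposition in rank one -/
theorem card_le {p : ℕ} [Fact p.Prime] {M : CoxeterMatrix (Fin 1)} {G : Type} [Group G] [Finite G] (hG : HasRGDT p M G) :
    Nat.card (Sylow p G) ≤ p ^ (Nat.card G).factorization p + 1 := by
  obtain ⟨A, h, T, n, X, hW, R, hX⟩ := hG
  obtain ⟨P, hP⟩ := H410.PSUThree.exists_sylow R hX
  obtain ⟨k₀, hk₀⟩ := exists_rp M.toCoxeterSystem R.nsys (M.toCoxeterSystem.simple 0)
  have hB : ∀ b ∈ RGD.B M.toCoxeterSystem h T X, b • P = P := fun b hb =>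
    Sylow.smul_eq_iff_mem_normalizer.2 (by
      have h1 := R.B_le_normalizer_U hb
      rwa [← hP] at h1)
  have h1 : Function.Surjective fun o : Option P => o.elim P fun u => ((u : G) * k₀) • P := fun Q => by
    obtain ⟨g, rfl⟩ := MulAction.exists_smul_eq G P Q
    obtain ⟨w, hw⟩ := (mem_GG R (g := g)).1 (by rw [H410.TwoTransRGD.GG_eq_top_of_gen R hX]; exact Subgroup.mem_top g)
    by_cases hw1 : w = 1
    · subst hw1
      exact ⟨none, (hB g hw.mem_of_one).symm⟩
    · rw [H410.PSUThree.eq_simple (cs := M.toCoxeterSystem) (i := 0) (fun j => Subsingleton.elim _ _) hw1] at hw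
      obtain ⟨b₁, hb₁, k, hk, b₂, hb₂, rfl⟩ := hw
      obtain ⟨t, ht, u, hu, e⟩ := R.mem_B.1 (inv_mem hb₁)
      have h2 : k₀⁻¹ * (t⁻¹ * k) ∈ T := hk₀.unique (by simpa using (rp_of_mem (inv_mem ht)).mul hk)
      refine ⟨some ⟨u⁻¹, by rw [hP]; exact inv_mem hu⟩, ?_⟩
      show (u⁻¹ * k₀) • P = (b₁ * k * b₂) • P
      rw [show b₁ * k * b₂ = u⁻¹ * k₀ * (k₀⁻¹ * (t⁻¹ * k) * b₂) by rw [← inv_inv b₁, e]; group, mul_smul _ (_ * b₂),
        hB _ (mul_mem (RGD.T_le_B h2) hb₂)]
  have h2 := Nat.card_le_card_of_surjective _ h1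
  rwa [Finite.card_option, Sylow.card_eq_multiplicity] at h2

theorem pow_eq {p a k m n : ℕ} (hp : p.Prime) (hk : ¬ p ∣ k) (hm : ¬ p ∣ m) (h : k * n = p ^ a * m) :
    p ^ n.factorization p = p ^ a := by
  have hm0 : m ≠ 0 := fun e => hm (e ▸ dvd_zero p)
  have h0 := mul_ne_zero (pow_ne_zero a hp.ne_zero) hm0
  rw [← h] at h0
  have h1 := congrArg (fun x => x.factorization p) h
  simp only [Nat.factorization_mul (left_ne_zero_of_mul h0) (right_ne_zero_of_mul h0),
    Nat.factorization_mul (pow_ne_zero a hp.ne_zero) hm0, Finsupp.coe_add, Pi.add_apply,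
    Nat.factorization_eq_zero_of_not_dvd hk, Nat.factorization_eq_zero_of_not_dvd hm, hp.factorization_pow,
    Finsupp.single_eq_same, zero_add, add_zero] at h1
  rw [h1]

variable {T G : Type} [Group T] [Group G] [Finite G] {p c : ℕ} [Fact p.Prime]

theorem aux (e : T ≃* G) (h1 : Nat.card (Sylow p G) ≤ c) (h2 : p ^ (Nat.card G).factorization p + 1 = c) :
    Nat.card (Sylow p T) ≤ c ∧ ∀ P : Sylow p T, Nat.card (P : Subgroup T) + 1 = c := by
  have := Finite.of_equiv G e.symm.toEquiv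
  refine ⟨(Nat.card_le_card_of_surjective _
    (Sylow.mapSurjective_surjective (f := e.symm.toMonoidHom) e.symm.surjective p)).trans h1, fun P => ?_⟩
  rw [Sylow.card_eq_multiplicity, Nat.card_congr e.toEquiv, h2]

theorem rk1N (e : T ≃* G) (h1 : Nat.card (Sylow p G) ≤ c) (h2 : p ^ (Nat.card G).factorization p + 1 = c) (h3 : NotAb p G) :
    Rk1N T c := by
  refine ⟨p, inferInstance, (aux e h1 h2).1, fun P => ⟨(aux e h1 h2).2 P, ?_⟩⟩
  by_contra h4
  push Not at h4
  exact h3.of_mulEquiv e.symm P ⟨⟨fun x y => Subtype.ext (h4 x x.2 y y.2)⟩⟩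

theorem nd {p q : ℕ} (hp : p.Prime) (h : p ∣ q) : (q ≠ 0 → ¬ p ∣ q - 1) ∧ ¬ p ∣ q + 1 :=
  ⟨fun h0 h1 => hp.one_lt.ne' (Nat.dvd_one.1 (by
    have h2 := Nat.dvd_sub h h1
    rwa [show q - (q - 1) = 1 by omega] at h2)), fun h1 => hp.one_lt.ne' (Nat.dvd_one.1 ((Nat.dvd_add_right h).1 h1))⟩

end R1B

open R1B

/-- **[R1]** -/
theorem boxR1 : BoxR1 := by
  intro T _ F _ _
  obtain ⟨p, hc⟩ := CharP.exists F
  obtain ⟨a, hp, ha⟩ := FiniteField.card F p
  have := Fact.mk hp
  have hq : p ∣ Fintype.card F := ha ▸ dvd_pow_self p a.ne_zero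
  have hq0 : Fintype.card F ≠ 0 := Fintype.card_ne_zero
  refine ⟨fun ⟨e⟩ => ?_, fun q h3 hF ⟨e⟩ => ?_, fun m hm hF ⟨e⟩ => ?_, fun m hm hF ⟨e⟩ => ?_⟩
  · have h1 := S0243.result (F := F) rfl 2 le_rfl
    have h2 := (nd hp hq).1 hq0
    have h4 : p ^ (Nat.card (Matrix.ProjectiveSpecialLinearGroup (Fin 2) F)).factorization p = Fintype.card F := by
      refine (pow_eq (a := a) (k := Nat.gcd 2 (Fintype.card F - 1) * (Fintype.card F - 1))
        (m := (Fintype.card F ^ 2 - 1) * (Fintype.card F - 1)) hp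
        (hp.not_dvd_mul (fun h => h2 (h.trans (Nat.gcd_dvd_right _ _))) h2)
        (hp.not_dvd_mul ((nd hp (dvd_pow hq two_ne_zero)).1 (pow_ne_zero _ hq0)) h2) ?_).trans ha.symm
      rw [mul_assoc, h1, Fin.prod_univ_two, ← ha, mul_left_comm, Nat.mul_sub_one, ← pow_two]
      simp only [_root_.Fin.isValue, _root_.Fin.coe_ofNat_eq_mod, _root_.Nat.zero_mod, _root_.pow_zero, _root_.Nat.mod_succ, _root_.pow_one]
    have h5 := aux e (c := Fintype.card F + 1) (h4 ▸ card_le (typ_PSL 1)) (by rw [h4])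
    exact ⟨p, this, h5⟩
  · obtain ⟨t, rfl⟩ : ∃ t, q = t + 1 := ⟨q - 1, by omega⟩
    have : Finite (PSU 3 F (t + 1)) := Quotient.finite _
    rw [hF] at hq ha
    have h1 := hp.dvd_of_dvd_pow hq
    obtain ⟨b, -, hb⟩ := (Nat.dvd_prime_pow hp).1 (Dvd.intro _ ((pow_two (t + 1)).symm.trans ha))
    have h2 := (nd hp h1).1 (by omega)
    have h5 := (nd hp h1).2
    have h4 : p ^ (Nat.card (PSU 3 F (t + 1))).factorization p = (t + 1) ^ 3 := by
      refine (pow_eq (a := b * 3) hp (fun h => h5 (h.trans (Nat.gcd_dvd_right 3 (t + 2))))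
        (hp.not_dvd_mul h2 (hp.not_dvd_mul (fun h => h5 (hp.dvd_of_dvd_pow (n := 2) h)) (n := t ^ 2 + t + 1) ?_))
        ((HKS.EndOrd.card_psu_three hF).trans (by rw [pow_mul, ← hb]; rfl))).trans (by rw [pow_mul, ← hb])
      rw [show t ^ 2 + t + 1 = (t + 1) * t + 1 by ring]
      exact (nd hp (h1.mul_right t)).2
    obtain ⟨m, hm, hR⟩ := typ_PSU (p := p) hF (le_refl 3)
    obtain rfl : m = 1 := by omega
    exact rk1N e (h4 ▸ card_le hR) (by rw [h4]) (H794.PsuNotAb.notAb hF le_rfl)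
  · have := Fact.mk Nat.prime_two
    obtain ⟨h1, S, -, h2, -⟩ := S1163.result hm hF
    obtain ⟨e'⟩ := OddCyclic.ClaimC.SzIso.iso hm hF
    have h3 := fun P => S0330.result hm hF P
    refine rk1N (p := 2) e (by rw [Sylow.card_eq_index_normalizer S, hF]; exact h2.le) ?_
      (NotAb.of_mulEquiv e' fun P hP => ?_)
    · rw [← Nat.card_congr e'.toEquiv, ← Sylow.card_eq_multiplicity default, (h3 _).1, hF]
    · obtain ⟨h4, -, -, h5⟩ := h3 P
      rw [Subgroup.center_eq_top, Subgroup.card_top, h4, ← pow_mul] at h5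
      have h6 := Nat.pow_right_injective le_rfl h5
      omega
  · have := Fact.mk Nat.prime_three
    have D := LieRecognition.ReeFinal.data hF
    have : Finite ↥(Lie.twistedG2 F (3 ^ m)) := inferInstance
    obtain ⟨P, h1, h2⟩ := H125.TwoReeSyl.exists_sylow_card D hF
    refine rk1N (p := 3) e (by rw [h2, hF]) ?_ (H794.DefAb.notAb_ree ⟨F, _, _, m, hm, hF, ⟨MulEquiv.refl _⟩⟩)
    rw [← Sylow.card_eq_multiplicity P, h1, hF]

end Cfsg.Agent.SM.Alt
end

-- part: SM/Alt/HSMod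
section
/-!
# SM-A4, model: the action of `HS` on the 352 cosets of `⟨x, y⟩` in `HS:2` (helper21)

`ρ : Q →* Perm (Fin 352)`; the points below 176 form an invariant set; `P` is a 5-subgroup with orbits
`{0}`, `[1, 25]`, `[26, 50]`, `[51, 175]` on it; `γ` is the conjugation by `Z`.
-/

set_option autoImplicit false
set_option maxRecDepth 100000

namespace Cfsg.Agent.SM.Alt.HS

open Cfsg.Agent.SporadicA.PermTab Cfsg.Agent.HN.Pres Cfsg.Agent.HN.HS100 Cfsg.Agent.HN.DoubleCover Equiv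

noncomputable section

def uX : ℕ := 0x2344789810e212404780e51f64089711d24053072124210448889522963b0861251f23c8829151e64cc880fa1e23a8948f81fe4849c92f1cc4189a8b02844c89895d270554899231da3f09e91921e41ca41502583dc9d153208578aa11c1d057c9410d1d63d4a210b25a538a694124e5708c1492283a4ad94f24c4d8a291f1c6558ad0f42763bc7b12a2ae500a393c2443f48b1002865189f9591fc39c9594a22e4f88511b1dc4dcac151206308708b51863385f0c71b62fc698d81642cc5c8d41b23305e8b6176378608d21882f05d0b71b8314630cb1be388668c01b4374688ca19e3246a8b4190340700b81ac35c589340380185183605c2a81800514e0a03887b15a0601100e0900d03e0151360ac1488c0f0034410810ee18c3684302c06c2f8980fa2281a82a0880e43400b0c82544a05b0660ec4589d1480280d0971261600381f0c21bc528670e414c4883a0bc168190850e005c328831240f43986011a1ac1f83c1001a82787607c08c010190dc148120080b20982604d0181280a09f0820c412887120040238400ba15c3105c0fc1b0430040582b04489e0fe1a4230a90262ac078371342204c8a6012138228510ac284018120e8078088af11c1e42a0a20cc23c4e04905e0800e84205a2804b04b1081e8138500ea2b85403804215400800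
def uY : ℕ := 0x25c4809f90b29c454a61011f257ca692622e3ec9412b2542c08195c27439c7613e2364747e0f01ee524840ee2b649c7d14821a50c911581de4447a9091d4528838e6228510829522643f48611926051ca01182844cc7591a26c564a58e82824e08212321e428719572764f4a995123e4408993920c4707f15425a4788110e1ec3ccaf0f12b43a47a0ff2584949a95028c4dc97900262558a78f22aa4488b1242684a4908e51f04f07695d28a2fc6c8ce1b83305d0d31c2374710ca1622f45a8c71be3446b8cb16e324628b91a0334678be1a83186b0b61b6380620b21863046c0d21aa2ec6f0bc1842cc6d0c01902d05c0e4048270320040b20541506d0b8230568710ce01c4d80b0be0a0450ae1521fc310441040d80e81400629c2e8771161182505e13c0203788602c0ac358a201c2204787e06a284418781541d8578420921b00782510e1942c01e0a01a00c8950861043800a0ae0981986906027c3d04b0780180484f0222640f82705a0c80088107a0341b8890e81d42a8601300f84285102e138170211201f02409709a2ac0d85a1081ec160a40342a0560720ac0d01483b0cc070500230802001005400a0e44909d05e2582605311a294308450621a81105b08e1cc4981211c1f43709a0262505303f146060488790c61481c01007403001000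
def uYi : ℕ := 0x2ac4047214c27e3fc8f1382283c8779082224b0880f81e256caa95923a4c8a113c24c3dc7192e27448c8d9252ba520890e622652c8611a1ec47c7c8eb2444ac799271ea57c838fb2a053c7515127c5507d0ec2304e47495e21e418a310a28e480941242a63b4ad12f21a3b89b10e22e4109d9292b84589a14126242c9691929a414ac0f41f8424951452a44f4ab8e728640c9a8fd2043c08014426e500729492424cc7f11c2944c0740b022a3646d8c21a62e46d0df1862d4708bd1a23145d8c71b82f0690cb192380650de1a0360670b31a8318668c117e2dc5f0b41c43206b0b8174374660b119e3106a8b216c3006b94e0f22705283507c1ec4d8361240340f0380162103f02d0c422c120ae1420402d04b0800883600e02a0940484310204c0f8a611e274280820e62202483b0fa25c2a02a134200090420741840407c1201e82704f02c0d0520691120445407610a0683206e1460bc390ad00e2640e84c13e230488a70300f0558710ce0cc268280400182406f0b81181f8210c02343b84102e2380e0980d61e03502b0181282985f06000c130050a22583f8320ca1580d8630461142b83910c2a41889e0b01983a0af058064220290b21c04a82e07a0dc3680a08e21c5509401e0502d8040ea20c290021401a02e88a144178138ac1260042a800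
def uZ : ℕ := 0x860203307a09c134060ad0d60943902712e0600907609021c010a214e0f04681c06c0ec0189d0f60642d00b0a61903488001c270290ab0d00e40f02f0a82a84d81705c1bc3b8950442501903d0920e0578581041c40a8780c21400484a0da2403103401e0343e0981261102a86a0280284f05f1182b81309f008218108730461142602914001c0b0810bc2105605b14a23c4b0991481f83704b0ea0a85085c05a20c03091110214518200ac248200a80842a41402c0ca15c1a86005622c3388a1120fc1203103e0c00e85d0360682c83a06e11c2088e02018c0880107c298288790e813c380330d81180287f0fa2680001324a428ac0f92704c86f0e02962f87b8f31ca530768ff210434a213a2622c87a1142a63d49612a2263887411a1ec310a490b1ac350698e729c418730fa1d448c7e13c1683c8599152865705e12025a540778bb208554910b925c3c48d8b72ae4409e9371aa5746d93e1844648f8d82183ec660ec1f0504649241b438c8893327e4e45e91e17456cad1011e04709394f18c2d8811122be37c628e11a42fc9414a28c3209b12618e51c6c9181704a4680ce2684bc758dc1ae3b8800dd2a8424ab0d12064ac828e419e4d466948196328a11522603f49090f160544608c322e4ec8b1592804388e95e1fc3a45a90728a534600b1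
def u1 : ℕ := 0x2564a8949282be578ae95c2264488890e218404ad95a2b2560ab1552a84007f0f32ae3f07c8f72a63d4a91512a053ca714c296528a39451d6534a18f11de5247694828c510a11412804fc9f13d2764e89c93626839c9e13225e4b49c0e926e4d4999312604b89612624a4909091f1ca49c8e91a23048c8b1222404788e11b23245c8a91421441c8291020643c8690b2124208310420438c7f8fd1f63e87c0f61e83c8780ee1d83a8740e61c834c688e21c233c668de1b83806d0df1b03546e8db1b23286b8d61a8348680ce19832c628c017c3245d0b318e320630b81842d8588c41863045e0bf17a2ec5c8b716a2d0590b00f61e83c87815e2b8568ac0c61883085e0b8144558aa1522a0530a51481402704314e13024847146114510a114027c4f09c1362684b8950762744984107e2641e89812c2504909112023c4708d116228448861080dc460820fe1f44403910e214418811001f83e0760ea1d03886f06a1dc3686a0d01cc330720e01b83606b0d219c328640b415c2a8600a617c2e85b0b21602b0540a40cc2784d096128240460881082003e0780e81c03606808c1083206207c0e82e0580c01502f0500941682b052068138260480881001e03806c0a81001c0640500302e0600b008024018008140260440600f01a02c0480700a01001000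
def u2 : ℕ := 0x24446c8b91521e420821022be578ae95c22842ca90fa1ec3d0ad95a2b2560ab8fd1e4558aa9532a83fc7d9482823b8761512a053ca714d2883a8a614b292528a314228e514a18f026e4c0960e82804fc9f13d2784cc7313b2744e09c9352624d89a13225c4bc9692b2544a49412723c390931252464909011c24247c8e9192344608b0e32264488811121a4248710c21441883905206404800fe1f83e07c8f71ea3cc788ef1da3ac748e71ca36c6c8d61a8328710e11c03486f8d019c3746f0dc1b435c6c0cb1aa34c688cf19a3305c8c41863045a0bf1903245d8bd18e318628b216e3085a8c017c2f05d0b816c2c4598b00e41ac338650be1602a05215e2b8568ac0c816c5104a08c110558aa1522a05384d084298528a314813c258981220f81e0a114027c4f09d1280e84e09b1322684b09212e2544984010e2003e03812023c4708d11820c1b08b11422044885102218420820fc1fc3e87b0f41e43c0770dc0d03b0750e61d03806c0e21bc368690d41a0330330c6188300610ba1642f05c0b41582b8550a61442804e0981202484708a10c2083f07a0ec1c83706a0ac14826048068190310600881782003c0b41702c05409c1401b04a08c1081f03a070048140260440200f0300640580d02e0580a80200e0480281001c0300500800c00401800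
def c1 : ℕ := 0xffffffffffffffffffffffffffffffffffffffffffffffffffffffffffffffffffffffffffffffffffffffffffffffffffffffffffffffffffffffffffffffffffffffffffffffffffffffffffffffffffffffffffffffffffffffffffffffffffffffffffffffffffffffffffffffffffffffffffffffffffffffffffffffffffffffffffffffffffffffffffffffffffffffffffffffffffffffffffffffffffffffffffffffffffffffffffffffffffffffffffffffffffffffffffffffffffffffffffffffffffffffffffffffffffffffffffffffffffffffffffffffffffffffffffffffffffffffffffffffffffffffffffffffffffffffffffffffffffffffffffffffffffffffffffffffffffffffffffffffffffffffffffffffffffffffffffffffffffffffffffffffffffffffffffffffffffffffffffffffffffffffffffffffffffffffffffffffffffffffffffffffffffffffffffffffffffffffffffffffffffffffffffffffffffffffffffffffffffffffffffffffffffffffffffffffffffffffffffffffffffffffffffffffffffffffffffffffffffffffffffffffffffffffffffffffffffffffffffffffffffffffffffffffffc108180520a41082804208010811050080040110320a00c01902006410018042024007ff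
def c2 : ℕ := 0xfffffffffffffffffffffffffffffffffffffffffffffffffffffffffffffffffffffffffffffffffffffffffffffffffffffffffffffffffffffffffffffffffffffffffffffffffffffffffffffffffffffffffffffffffffffffffffffffffffffffffffffffffffffffffffffffffffffffffffffffffffffffffffffffffffffffffffffffffffffffffffffffffffffffffffffffffffffffffffffffffffffffffffffffffffffffffffffffffffffffffffffffffffffffffffffffffffffffffffffffffffffffffffffffffffffffffffffffffffffffffffffffffffffffffffffffffffffffffffffffffffffffffffffffffffffffffffffffffffffffffffffffffffffffffffffffffffffffffffffffffffffffffffffffffffffffffffffffffffffffffffffffffffffffffffffffffffffffffffffffffffffffffffffffffffffffffffffffffffffffffffffffffffffffffffffffffffffffffffffffffffffffffffffffffffffffffffffffffffffffffffffffffffffffffffffffffffffffffffffffffffffffffffffffffffffffffffe08010821042024148100300440c028032060088190320201002003204014818040003fffffffffffffffffffffffffffffffffffffffffffffffffffffffffffffffffffffff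
def c3 : ℕ := 0xffffffffffffffffffffffffffffffffffffffffffffffffffffffffffffffffffffffffffffffffffffffffffffffffffffffffffffffffffffffffffffffffffffffffffffffffffffffffffffffffffffffffffffffffffffffffffffffffffffffffffffffffffffffffffffffffffffffffffffffffffffffffffffffffffffffffffffffffffffffffffffffffffffffffffffffffffffffffffffffffffffffffffffffffffffffffffffffffffffffffffffffffffffffffffffffffffffffffffffffffffffffffffffffffffffffffffffffffffffffffffffffffffffffffffffffffffffffffffffffffffff0a2144288510620c4188310600c0180300600c01c8390720e41c0380700401c0380220e01c0380720e01c841082104208400800600c0400800642001808006420041032104208410921242484909008010020040120108200401201082009208410821092084248280500a0140280500a4140280500a4140290520a4148290520a4148090600c0180310600c4188310620c418831062020088390720e41c8390720400c84108206010820001ffffffffffffffffffffffffffffffffffffffffffffffffffffffffffffffffffffffffffffffffffffffffffffffffffffffffffffffffffffffffffffffffffffffffffff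

theorem dX : chkInv 352 uX uX = true := by decide +kernel
theorem dY : chkInv 352 uY uYi = true := by decide +kernel
theorem dZ : chkInv 352 uZ uZ = true := by decide +kernel

/-- image of x -/
def X' : Perm (Fin 352) := mkPerm uX uX dX
/-- image of y -/
def Y' : Perm (Fin 352) := mkPerm uY uYi dY
/-- image of z -/
def Z' : Perm (Fin 352) := mkPerm uZ uZ dZ

theorem rels' : Rels X' Y' Z' := by
  constructor
  all_goals
    refine Equiv.ext fun i => Fin.ext ?_
    revert i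
    decide +kernel

theorem X'_sq : X' ^ 2 = 1 := by
  refine Equiv.ext fun i => Fin.ext ?_
  revert i
  decide +kernel

/-- the action of `H0` on 352 points -/
def ψ : H0 →* Perm (Fin 352) := lift rels'

theorem ψ_gx : ψ gx = X' := lift_gx rels'
theorem ψ_gy : ψ gy = Y' := lift_gy rels'
theorem ψ_gz : ψ gz = Z' := lift_gz rels'

theorem ker_ψ {h : H0} (hh : φ h = 1) : ψ h = 1 := by
  let F : H0 →* Perm (Fin 100) × Perm (Fin 352) := φ.prod ψ
  have h1 : F (gx ^ 2) = 1 := by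
    refine Prod.ext ?_ ?_
    · show φ (gx ^ 2) = 1
      rw [map_pow, φ_gx, X_sq]
    · show ψ (gx ^ 2) = 1
      rw [map_pow, ψ_gx, X'_sq]
  have h2 := HN.Upper.xyz_of_rels F rels_H0 h1
  have h3 : F.range = Subgroup.closure {F gx, F gy, F gz} := by
    rw [MonoidHom.range_eq_map, ← closure_gens, MonoidHom.map_closure, Set.image_insert_eq, Set.image_pair]
  have h4 : Nat.card F.range ≤ 88704000 := by
    rw [h3]
    exact (HN.Upper.xyz_card h2).2.trans ((Nat.mul_le_mul_left 352 (HN.Upper.xy_card h2).2).trans (by norm_num))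
  let g : F.range → φ.range := fun p => ⟨p.1.1, by
    obtain ⟨k, hk⟩ := p.2
    exact ⟨k, congrArg Prod.fst hk⟩⟩
  have h5 : Function.Surjective g := by
    rintro ⟨_, k, rfl⟩
    exact ⟨⟨F k, k, rfl⟩, rfl⟩
  have h6 := (h5.bijective_of_nat_card_le (by rw [HN.AutBound.card_range]; exact h4)).1
  have h7 : g ⟨F h, h, rfl⟩ = g 1 := Subtype.ext hh
  exact congrArg (fun p : F.range => p.1.2) (h6 h7)

/-- the action of `Q` on 352 points -/
def ρ : Q →* Perm (Fin 352) :=
  φK.liftOfSurjective φK_surj ⟨ψ.comp K.subtype, fun _ hk => ker_ψ (congrArg Subtype.val hk)⟩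

theorem ρ_φK (k : K) : ρ (φK k) = ψ k := MonoidHom.liftOfRightInverse_comp_apply _ _ _ _ k

/-- the colour of a point -/
def col (i : Fin 352) : ℤˣ := if (i : ℕ) < 176 then 1 else -1

theorem col_ψ (h : H0) : ∀ i, col (ψ h i) = sgn h * col i := by
  have hh : h ∈ Subgroup.closure ({gx, gy, gz} : Set H0) := closure_gens ▸ Subgroup.mem_top h
  induction hh using Subgroup.closure_induction with
  | mem x hx =>
    rcases hx with rfl | rfl | rfl
    · rw [ψ_gx, sgn_gx]
      decide +kernel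
    · rw [ψ_gy, sgn_gy]
      decide +kernel
    · rw [ψ_gz, sgn_gz]
      decide +kernel
  | one => intro i; simp
  | mul a b _ _ ha hb => intro i; rw [map_mul, map_mul, Perm.mul_apply, ha, hb, mul_assoc]
  | inv a _ ha =>
    intro i
    have h1 := ha (ψ a⁻¹ i)
    rw [← Perm.mul_apply, ← map_mul, mul_inv_cancel, map_one, Perm.one_apply] at h1
    rw [h1, map_inv sgn, inv_mul_cancel_left]

theorem ρ_lt (q : Q) : (ρ q 0 : ℕ) < 176 := by
  obtain ⟨k, rfl⟩ := φK_surj q
  have h1 := col_ψ k 0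
  rw [← ρ_φK, show sgn k = 1 from k.2, one_mul] at h1
  by_contra h2
  rw [col, if_neg h2] at h1
  exact absurd h1 (by decide)

theorem gw_mem : gz * gy * gz⁻¹ ∈ K := K_normal.conj_mem _ gy_mem gz

/-- `X` in `Q` -/
def xq : Q := φK ⟨gx, gx_mem⟩
/-- `Y` in `Q` -/
def yq : Q := φK ⟨gy, gy_mem⟩
/-- `Z Y Z⁻¹` in `Q` -/
def wq : Q := φK ⟨gz * gy * gz⁻¹, gw_mem⟩

theorem xq_val : (xq : Perm (Fin 100)) = X := φ_gx
theorem yq_val : (yq : Perm (Fin 100)) = Y := φ_gy
theorem wq_val : (wq : Perm (Fin 100)) = Z * Y * Z⁻¹ := by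
  show φ (gz * gy * gz⁻¹) = _
  rw [map_mul, map_mul, map_inv, φ_gy, φ_gz]
theorem ρ_xq : ρ xq = X' := (ρ_φK _).trans ψ_gx
theorem ρ_yq : ρ yq = Y' := (ρ_φK _).trans ψ_gy
theorem ρ_wq : ρ wq = Z' * Y' * Z'⁻¹ := by
  refine (ρ_φK _).trans ?_
  show ψ (gz * gy * gz⁻¹) = _
  rw [map_mul, map_mul, map_inv, ψ_gy, ψ_gz]

theorem Z_norm : Z ∈ Subgroup.normalizer (Q : Set (Perm (Fin 100))) := by
  refine Subgroup.mem_normalizer_fintype ?_
  rintro _ ⟨k, hk, rfl⟩
  exact ⟨gz * k * gz⁻¹, K_normal.conj_mem _ hk gz, by rw [map_mul, map_mul, map_inv, φ_gz]⟩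

/-- the conjugation by `Z` -/
def γ : MulAut Q := Q.normalizerMonoidHom ⟨Z, Z_norm⟩

theorem γ_xq : γ xq = xq := by
  refine Subtype.ext ?_
  show Z * (xq : Perm (Fin 100)) * Z⁻¹ = xq
  rw [xq_val]
  refine Equiv.ext fun i => Fin.ext ?_
  revert i
  decide +kernel

theorem γ_yq : γ yq = wq := by
  refine Subtype.ext ?_
  show Z * (yq : Perm (Fin 100)) * Z⁻¹ = wq
  rw [yq_val, wq_val]

theorem no_fix : ∀ i : Fin 352, (i : ℕ) < 176 → X' i = i → (Z' * Y' * Z'⁻¹) i ≠ i := by decide +kernel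

/-! ### a 5-subgroup -/

/-- a word -/
def w1 {G : Type} [Group G] (x y : G) : G := x * y * x * y⁻¹ * x * y⁻¹ * x * y * y
/-- a word -/
def w2 {G : Type} [Group G] (x y : G) : G := x * y⁻¹ * x * y⁻¹ * y⁻¹
/-- a word -/
def w3 {G : Type} [Group G] (x y : G) : G := w1 x y * w2 x y * (w1 x y)⁻¹ * (w2 x y)⁻¹

theorem wrel : w1 X Y ^ 5 = 1 ∧ w2 X Y ^ 5 = 1 ∧ w3 X Y ^ 5 = 1 ∧ w1 X Y * w3 X Y * (w1 X Y)⁻¹ = w3 X Y ∧
    w2 X Y * w3 X Y * (w2 X Y)⁻¹ = w3 X Y := by
  refine ⟨?_, ?_, ?_, ?_, ?_⟩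
  all_goals
    refine Equiv.ext fun i => Fin.ext ?_
    revert i
    decide +kernel

theorem map_w1 {G H : Type} [Group G] [Group H] (f : G →* H) (x y : G) : f (w1 x y) = w1 (f x) (f y) := by
  simp only [w1, map_mul, map_inv]
theorem map_w2 {G H : Type} [Group G] [Group H] (f : G →* H) (x y : G) : f (w2 x y) = w2 (f x) (f y) := by
  simp only [w2, map_mul, map_inv]
theorem map_w3 {G H : Type} [Group G] [Group H] (f : G →* H) (x y : G) : f (w3 x y) = w3 (f x) (f y) := by
  simp only [w3, map_mul, map_inv, map_w1, map_w2]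

theorem pg_heis {G : Type} [Group G] [Finite G] {a b c : G} (ha : a ^ 5 = 1) (hb : b ^ 5 = 1) (hc : c ^ 5 = 1)
    (h1 : a * c * a⁻¹ = c) (h2 : b * c * b⁻¹ = c) (h3 : c = a * b * a⁻¹ * b⁻¹) :
    IsPGroup 5 (Subgroup.zpowers b ⊔ (Subgroup.zpowers a ⊔ Subgroup.zpowers c) : Subgroup G) := by
  have hz : ∀ g : G, g ^ 5 = 1 → IsPGroup 5 (Subgroup.zpowers g) := by
    rintro g hg ⟨_, n, rfl⟩
    refine ⟨1, Subtype.ext ?_⟩
    show (g ^ n) ^ 5 ^ 1 = 1
    rw [pow_one, ← zpow_natCast, ← zpow_mul, mul_comm, zpow_mul, zpow_natCast, hg, one_zpow]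
  have hn : ∀ (g : G) (S : Subgroup G), S.map (MulAut.conj g).toMonoidHom ≤ S →
      Subgroup.zpowers g ≤ Subgroup.normalizer (S : Set G) := fun g S h =>
    (Subgroup.zpowers_le_of_mem (Subgroup.mem_normalizer_fintype fun n hn => h ⟨n, hn, rfl⟩))
  refine IsPGroup.to_sup_of_normal_right' (hz b hb) (IsPGroup.to_sup_of_normal_right' (hz a ha) (hz c hc) (hn _ _ ?_))
    (hn _ _ ?_)
  · rw [MonoidHom.map_zpowers]
    exact Subgroup.zpowers_le_of_mem (by
      show a * c * a⁻¹ ∈ _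
      rw [h1]
      exact Subgroup.mem_zpowers c)
  · rw [Subgroup.map_sup, MonoidHom.map_zpowers, MonoidHom.map_zpowers]
    refine sup_le (Subgroup.zpowers_le_of_mem ?_) (Subgroup.zpowers_le_of_mem ?_)
    · show b * a * b⁻¹ ∈ _
      have h4 : b * a * b⁻¹ = c⁻¹ * a := by rw [h3]; group
      rw [h4]
      exact Subgroup.mul_mem _ (Subgroup.inv_mem _ (Subgroup.mem_sup_right (Subgroup.mem_zpowers c)))
        (Subgroup.mem_sup_left (Subgroup.mem_zpowers a))
    · show b * c * b⁻¹ ∈ _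
      rw [h2]
      exact Subgroup.mem_sup_right (Subgroup.mem_zpowers c)

/-- the 5-subgroup -/
def P : Subgroup Q := Subgroup.zpowers (w2 xq yq) ⊔ (Subgroup.zpowers (w1 xq yq) ⊔ Subgroup.zpowers (w3 xq yq))

theorem P_pg : IsPGroup 5 P := by
  have e1 : Q.subtype (w1 xq yq) = w1 X Y := by rw [map_w1, ← xq_val, ← yq_val]; rfl
  have e2 : Q.subtype (w2 xq yq) = w2 X Y := by rw [map_w2, ← xq_val, ← yq_val]; rfl
  have e3 : Q.subtype (w3 xq yq) = w3 X Y := by rw [map_w3, ← xq_val, ← yq_val]; rfl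
  obtain ⟨h1, h2, h3, h4, h5⟩ := wrel
  refine pg_heis (Q.subtype_injective ?_) (Q.subtype_injective ?_) (Q.subtype_injective ?_) (Q.subtype_injective ?_)
    (Q.subtype_injective ?_) rfl
  · rw [map_pow, e1, h1, map_one]
  · rw [map_pow, e2, h2, map_one]
  · rw [map_pow, e3, h3, map_one]
  · rw [map_mul, map_mul, map_inv, e1, e3, h4]
  · rw [map_mul, map_mul, map_inv, e2, e3, h5]

theorem in1 : InG (P.map ρ) u1 := by
  refine ⟨ρ (w1 xq yq), ⟨_, Subgroup.mem_sup_right (Subgroup.mem_sup_left (Subgroup.mem_zpowers _)), rfl⟩, ?_⟩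
  rw [map_w1, ρ_xq, ρ_yq]
  decide +kernel

theorem in2 : InG (P.map ρ) u2 := by
  refine ⟨ρ (w2 xq yq), ⟨_, Subgroup.mem_sup_left (Subgroup.mem_zpowers _), rfl⟩, ?_⟩
  rw [map_w2, ρ_xq, ρ_yq]
  decide +kernel

theorem mem2' {G : Subgroup (Perm (Fin 352))} {a b : ℕ} (ha : InG G a) (hb : InG G b) : ∀ P ∈ [a, b], InG G P :=
  List.forall_mem_cons.2 ⟨ha, List.forall_mem_singleton.2 hb⟩

theorem orb1 (v : Fin 352) (h1 : 1 ≤ (v : ℕ)) (h2 : (v : ℕ) < 26) : ∃ g ∈ P.map ρ, g 1 = v := by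
  refine orb_of_chk (x := 1) (L := [u1, u2]) in1 (mem2' in1 in2) (C := c1) (by decide +kernel) v ?_
  revert v
  decide +kernel

theorem orb2 (v : Fin 352) (h1 : 26 ≤ (v : ℕ)) (h2 : (v : ℕ) < 51) : ∃ g ∈ P.map ρ, g 26 = v := by
  refine orb_of_chk (x := 26) (L := [u1, u2]) in1 (mem2' in1 in2) (C := c2) (by decide +kernel) v ?_
  revert v
  decide +kernel

theorem orb3 (v : Fin 352) (h1 : 51 ≤ (v : ℕ)) (h2 : (v : ℕ) < 176) : ∃ g ∈ P.map ρ, g 51 = v := by
  refine orb_of_chk (x := 51) (L := [u1, u2]) in1 (mem2' in1 in2) (C := c3) (by decide +kernel) v ?_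
  revert v
  decide +kernel

end

end Cfsg.Agent.SM.Alt.HS
end

-- part: SM/Alt/HS
section
/-!
# SM-A4: `HS` has at most two 2-transitive actions of degree 176, one up to automorphisms (helper21)

A point stabiliser `L` containing the 5-subgroup `P` has an orbit `{0}` or `{0} ∪ [51, 175]` on the model
(the length divides 252000); `L` is maximal, so it is the stabiliser of that set.
-/

set_option autoImplicit false
set_option maxRecDepth 100000

namespace Cfsg.Agent.SM.Alt.HS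

open Cfsg.Agent.SporadicA.PermTab Cfsg.Agent.HN.HS100 Equiv

/-- unions of orbits of `P` -/
def Or3 (b1 b2 b3 : Bool) (i : ℕ) : Bool :=
  i == 0 || (b1 && decide (1 ≤ i) && decide (i < 26)) || (b2 && decide (26 ≤ i) && decide (i < 51)) ||
    (b3 && decide (51 ≤ i) && decide (i < 176))

theorem cnt3 : ∀ b1 b2 b3 : Bool, cntB (Or3 b1 b2 b3) 352 (1 + 25 * b1.toNat + 25 * b2.toNat + 125 * b3.toNat) = true := by
  decide +kernel

theorem dvd3 : ∀ b1 b2 b3 : Bool, 1 + 25 * b1.toNat + 25 * b2.toNat + 125 * b3.toNat ∣ 252000 →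
    b1 = false ∧ b2 = false := by decide +kernel

/-- `t` stabilises the set number `b` -/
def St (b : Bool) (t : Q) : Prop := ∀ i : Fin 352, Or3 false false b (ρ t i) = Or3 false false b i

theorem St.mul {b : Bool} {s t : Q} (hs : St b s) (ht : St b t) : St b (s * t) := fun i => by
  rw [map_mul, Perm.mul_apply, hs, ht]

theorem St.inv {b : Bool} {s : Q} (hs : St b s) : St b s⁻¹ := fun i => by
  rw [← hs (ρ s⁻¹ i), ← Perm.mul_apply, ← map_mul, mul_inv_cancel, map_one, Perm.one_apply]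

theorem not_St (b : Bool) : ¬ St b wq := by
  rw [St, ρ_wq]
  revert b
  decide +kernel

theorem St_false {t : Q} : St false t ↔ ρ t 0 = 0 := by
  have h0 : ∀ i : Fin 352, Or3 false false false i = true ↔ i = 0 := by decide +kernel
  refine ⟨fun h => (h0 _).1 ((h 0).trans ((h0 0).2 rfl)), fun h i => Bool.eq_iff_iff.2 ?_⟩
  rw [h0, h0]
  exact ⟨fun h1 => (ρ t).injective (h1.trans h.symm), fun h1 => h1 ▸ h⟩

theorem smul_orb {G X : Type} [Group G] [MulAction G X] {a x : X} (g : G) :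
    g • x ∈ MulAction.orbit G a ↔ x ∈ MulAction.orbit G a :=
  ⟨fun ⟨k, hk⟩ => ⟨g⁻¹ * k, (mul_smul _ _ _).trans (inv_smul_eq_iff.2 hk)⟩,
    fun ⟨k, hk⟩ => ⟨g * k, (mul_smul _ _ _).trans (congrArg _ hk)⟩⟩

/-- a subgroup of order 252000 containing `P` stabilises one of the two sets -/
theorem le_St (L : Subgroup Q) (hP : P ≤ L) (hL : Nat.card L = 252000) : ∃ b, ∀ t ∈ L, St b t := by
  classical
  let O : Set (Fin 352) := MulAction.orbit (L.map ρ) (0 : Fin 352)
  have hinv : ∀ g ∈ L.map ρ, ∀ i, g i ∈ O ↔ i ∈ O := fun g hg i => smul_orb (⟨g, hg⟩ : L.map ρ)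
  have hO : ∀ i : Fin 352, i ∈ O ↔ Or3 (decide (1 ∈ O)) (decide (26 ∈ O)) (decide (51 ∈ O)) i = true := by
    intro i
    have hm := Subgroup.map_mono (f := ρ) hP
    simp only [Or3, Bool.or_eq_true, Bool.and_eq_true, decide_eq_true_eq, beq_iff_eq]
    constructor
    · intro hi
      have h1 : (i : ℕ) < 176 := by
        obtain ⟨⟨_, t, -, rfl⟩, rfl⟩ := hi
        exact ρ_lt t
      by_cases h2 : (i : ℕ) = 0
      · exact Or.inl (Or.inl (Or.inl h2))
      by_cases h3 : (i : ℕ) < 26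
      · obtain ⟨g, hg, rfl⟩ := orb1 i (by omega) h3
        exact Or.inl (Or.inl (Or.inr ⟨⟨(hinv g (hm hg) _).1 hi, by omega⟩, h3⟩))
      by_cases h4 : (i : ℕ) < 51
      · obtain ⟨g, hg, rfl⟩ := orb2 i (by omega) h4
        exact Or.inl (Or.inr ⟨⟨(hinv g (hm hg) _).1 hi, by omega⟩, h4⟩)
      · obtain ⟨g, hg, rfl⟩ := orb3 i (by omega) h1
        exact Or.inr ⟨⟨(hinv g (hm hg) _).1 hi, by omega⟩, h1⟩
    · rintro (((h | ⟨⟨h1, h2⟩, h3⟩) | ⟨⟨h1, h2⟩, h3⟩) | ⟨⟨h1, h2⟩, h3⟩)
      · rw [show i = 0 from Fin.ext h]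
        exact MulAction.mem_orbit_self _
      · obtain ⟨g, hg, rfl⟩ := orb1 i h2 h3
        exact (hinv g (hm hg) _).2 h1
      · obtain ⟨g, hg, rfl⟩ := orb2 i h2 h3
        exact (hinv g (hm hg) _).2 h1
      · obtain ⟨g, hg, rfl⟩ := orb3 i h2 h3
        exact (hinv g (hm hg) _).2 h1
  generalize decide (1 ∈ O) = b1, decide (26 ∈ O) = b2, decide (51 ∈ O) = b3 at hO
  have h1 : O.ncard = 1 + 25 * b1.toNat + 25 * b2.toNat + 125 * b3.toNat := by
    rw [← card_fin_of_cntB _ _ _ (cnt3 b1 b2 b3), ← Set.ncard_coe_finset]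
    congr 1
    ext i
    simpa using hO i
  have h2 : O.ncard ∣ 252000 :=
    (Dvd.intro _ (card_eq_mul_card_ps (L.map ρ) 0).symm).trans (hL ▸ Subgroup.card_map_dvd L ρ)
  obtain ⟨rfl, rfl⟩ := dvd3 b1 b2 b3 (h1 ▸ h2)
  exact ⟨b3, fun t ht i => Bool.eq_iff_iff.2 ((hO _).symm.trans ((hinv _ ⟨t, ht, rfl⟩ i).trans (hO i)))⟩

/-- 2-transitive of degree 176 -/
structure Ac {Δ : Type} (f : Q →* Perm Δ) : Prop where
  card : Nat.card Δ = 176
  two : ∀ a b x y : Δ, a ≠ b → x ≠ y → ∃ t, f t a = x ∧ f t b = y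

theorem Ac.tr {Δ : Type} {f : Q →* Perm Δ} (h : Ac f) (a x : Δ) : ∃ t, f t a = x := by
  have : Finite Δ := Nat.finite_of_card_ne_zero (by rw [h.card]; norm_num)
  have : Nontrivial Δ := Finite.one_lt_card_iff_nontrivial.1 (by rw [h.card]; norm_num)
  obtain ⟨b, hb⟩ := exists_ne a
  obtain ⟨y, hy⟩ := exists_ne x
  obtain ⟨t, ht, -⟩ := h.two a b x y hb.symm hy.symm
  exact ⟨t, ht⟩

theorem Ac.tw {Δ : Type} {f : Q →* Perm Δ} (h : Ac f) : Ac (f.comp γ.toMonoidHom) :=
  ⟨h.card, fun a b x y h1 h2 =>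
    let ⟨t, ht⟩ := h.two a b x y h1 h2
    ⟨γ.symm t, by simpa only [_root_.MulEquiv.toMonoidHom_eq_coe, _root_.MonoidHom.coe_comp, _root_.MonoidHom.coe_coe, _root_.Function.comp_apply, _root_.MulEquiv.apply_symm_apply] using ht⟩⟩

/-- the type of an action -/
theorem Ac.ty {Δ : Type} {f : Q →* Perm Δ} (h : Ac f) : ∃ (a : Δ) (b : Bool), ∀ t, f t a = a ↔ St b t := by
  have : Finite Δ := Nat.finite_of_card_ne_zero (by rw [h.card]; norm_num)
  let : MulAction Q Δ := MulAction.compHom Δ f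
  have : Fact (Nat.Prime 5) := ⟨by norm_num⟩
  obtain ⟨a, ha⟩ := P_pg.nonempty_fixed_point_of_prime_not_dvd_card Δ (by rw [h.card]; norm_num)
  have : MulAction.IsPretransitive Q Δ := ⟨h.tr⟩
  have h1 := (MulAction.stabilizer Q a).card_mul_index
  rw [MulAction.index_stabilizer_of_transitive, h.card, HN.AutBound.card_Q] at h1
  obtain ⟨b, hb⟩ := le_St (MulAction.stabilizer Q a) (fun t ht => ha ⟨t, ht⟩) (by omega)
  have hb' : ∀ t, f t a = a → St b t := hb
  refine ⟨a, b, fun m => ⟨hb' m, fun hm => ?_⟩⟩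
  by_contra hma
  by_cases hw : f wq a = a
  · exact not_St b (hb' _ hw)
  obtain ⟨s, hs1, hs2⟩ := h.two a (f m a) a (f wq a) (Ne.symm hma) (Ne.symm hw)
  have h2 : St b (wq⁻¹ * (s * m)) := hb' _ (by
    rw [map_mul, map_mul, Perm.mul_apply, Perm.mul_apply, hs2, map_inv, Perm.inv_eq_iff_eq])
  have h3 := ((hb' s hs1).mul hm).mul h2.inv
  rw [mul_inv_rev, inv_inv, mul_inv_cancel_left] at h3
  exact not_St b h3

/-- the twist of the first type has the second type -/
theorem Ac.sw {Δ : Type} {f : Q →* Perm Δ} (h : Ac f) {a : Δ} (ha : ∀ t, f t a = a ↔ St false t) :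
    ∃ a' : Δ, ∀ t, f (γ t) a' = a' ↔ St true t := by
  obtain ⟨a', b, hb⟩ := h.tw.ty
  cases b
  · exfalso
    obtain ⟨g, rfl⟩ := h.tr a a'
    have key : ∀ t, ρ t 0 = 0 → ρ (γ t) (ρ g 0) = ρ g 0 := by
      intro t ht
      have h1 : f (γ t) (f g a) = f g a := (hb t).2 (St_false.2 ht)
      have h2 := St_false.1 ((ha (g⁻¹ * (γ t * g))).1 (by
        rw [map_mul, map_mul, Perm.mul_apply, Perm.mul_apply, h1, map_inv, Perm.inv_eq_iff_eq]))
      rwa [map_mul, map_mul, Perm.mul_apply, Perm.mul_apply, map_inv, Perm.inv_eq_iff_eq] at h2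
    have h1 := key xq (by rw [ρ_xq]; decide +kernel)
    have h2 := key yq (by rw [ρ_yq]; decide +kernel)
    rw [γ_xq, ρ_xq] at h1
    rw [γ_yq, ρ_wq] at h2
    exact no_fix _ (ρ_lt g) h1 h2
  · exact ⟨a', hb⟩

theorem row {Δ₁ Δ₂ : Type} {f₁ : Q →* Perm Δ₁} {f₂ : Q →* Perm Δ₂} (h₁ : Ac f₁) (h₂ : Ac f₂) :
    ∃ (δ : MulAut Q) (a₁ : Δ₁) (a₂ : Δ₂), ∀ t, f₁ t a₁ = a₁ ↔ f₂ (δ t) a₂ = a₂ := by
  obtain ⟨a₁, b₁, e₁⟩ := h₁.ty
  obtain ⟨a₂, b₂, e₂⟩ := h₂.ty
  cases b₁ <;> cases b₂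
  · exact ⟨1, a₁, a₂, fun t => (e₁ t).trans (e₂ t).symm⟩
  · obtain ⟨a, ha⟩ := h₁.sw e₁
    refine ⟨γ.symm, a, a₂, fun t => ?_⟩
    rw [e₂, ← ha, MulEquiv.apply_symm_apply]
  · obtain ⟨a, ha⟩ := h₂.sw e₂
    exact ⟨γ, a₁, a, fun t => (e₁ t).trans (ha t).symm⟩
  · exact ⟨1, a₁, a₂, fun t => (e₁ t).trans (e₂ t).symm⟩

theorem ac {T Δ : Type} [Group T] [MulAction T Δ] (e : Q ≃* T) (h : Act T Δ 176) :
    Ac ((MulAction.toPermHom T Δ).comp e.toMonoidHom) :=
  ⟨h.card, fun a b x y h1 h2 =>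
    let ⟨t, ht⟩ := h.two a b x y h1 h2
    ⟨e.symm t, by simpa only [_root_.MulEquiv.toMonoidHom_eq_coe, _root_.MonoidHom.coe_comp, _root_.MonoidHom.coe_coe, _root_.Function.comp_apply, _root_.MulEquiv.apply_symm_apply, _root_.MulAction.toPermHom_apply, _root_.MulAction.toPerm_apply] using ht⟩⟩

theorem same {T Δ₁ Δ₂ : Type} [Group T] [MulAction T Δ₁] [MulAction T Δ₂] (e : Q ≃* T) {a₁ : Δ₁} {a₂ : Δ₂} {b : Bool}
    (e₁ : ∀ t, ((MulAction.toPermHom T Δ₁).comp e.toMonoidHom) t a₁ = a₁ ↔ St b t)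
    (e₂ : ∀ t, ((MulAction.toPermHom T Δ₂).comp e.toMonoidHom) t a₂ = a₂ ↔ St b t) : Same T Δ₁ Δ₂ :=
  ⟨a₁, a₂, fun t => by simpa only [_root_.MulEquiv.toMonoidHom_eq_coe, _root_.MonoidHom.coe_comp, _root_.MonoidHom.coe_coe, _root_.Function.comp_apply, _root_.MulEquiv.apply_symm_apply, _root_.MulAction.toPermHom_apply, _root_.MulAction.toPerm_apply] using (e₁ (e.symm t)).trans (e₂ (e.symm t)).symm⟩

/-- **`HS` of degree 176** -/
theorem boxHS : BoxHS := by
  rintro T _ ⟨e0⟩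
  obtain ⟨e1⟩ := HN.AutHS.nonempty_Q.1
  let e : Q ≃* T := e1.trans e0.symm
  refine ⟨fun Δ₁ Δ₂ _ _ h₁ h₂ => ?_, fun Δ₁ Δ₂ Δ₃ _ _ _ h₁ h₂ h₃ => ?_⟩
  · obtain ⟨δ, a₁, a₂, h⟩ := row (ac e h₁) (ac e h₂)
    exact ⟨(e.symm.trans δ).trans e, a₁, a₂, fun t => by simpa only [_root_.MulEquiv.trans_apply, _root_.MulEquiv.toMonoidHom_eq_coe, _root_.MonoidHom.coe_comp, _root_.MonoidHom.coe_coe, _root_.Function.comp_apply, _root_.MulEquiv.apply_symm_apply, _root_.MulAction.toPermHom_apply, _root_.MulAction.toPerm_apply] using h (e.symm t)⟩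
  · obtain ⟨a₁, b₁, e₁⟩ := (ac e h₁).ty
    obtain ⟨a₂, b₂, e₂⟩ := (ac e h₂).ty
    obtain ⟨a₃, b₃, e₃⟩ := (ac e h₃).ty
    cases b₁ <;> cases b₂ <;> cases b₃
    all_goals first
      | exact Or.inl (same e e₁ e₂)
      | exact Or.inr (Or.inl (same e e₁ e₃))
      | exact Or.inr (Or.inr (same e e₂ e₃))

end Cfsg.Agent.SM.Alt.HS
end

-- part: SM/Alt/MatC
section
/-!
# SM (S3570), alternating socle: `L₂(11)` on 11 points and `A₇` on 15 points (helper61)
-/

set_option autoImplicit false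

namespace Cfsg.Agent.SM.Alt.Mat

open Cfsg Equiv Subgroup MulAction
open Cfsg.Agent.H561.PPow (RowAt)
open Cfsg.Agent.H220.EP

theorem out2_eleven {F : Type} [Field F] [Fintype F] (hF : Fintype.card F = 11) :
    Out2 (Matrix.ProjectiveSpecialLinearGroup (Fin 2) F) := by
  have : Fact (Nat.Prime 11) := ⟨by norm_num⟩
  obtain ⟨φ, -, -, h⟩ := H183.OutPSL.out_two (F := F) (p := 11) (f := 1) le_rfl (by rw [hF]; norm_num) (by norm_num)
  have h1 : φ.ker = ⊤ := by
    rw [eq_top_iff]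
    intro x _
    have : Subsingleton (Multiplicative (ZMod 1)) := inferInstanceAs (Subsingleton (Fin 1))
    exact Subsingleton.elim _ _
  rw [h1, Subgroup.card_top] at h
  exact Out2.of_card h

theorem out2_seven : Out2 (alternatingGroup (Fin 7)) := by
  obtain ⟨-, hs⟩ := S2119.result 7 (by norm_num) (by norm_num)
  have key : ∀ σ ∈ alternatingGroup (Fin 7), Inr (MulAut.conjNormal σ : MulAut (alternatingGroup (Fin 7))) :=
    fun σ h => ⟨⟨σ, h⟩, MulEquiv.ext fun _ => rfl⟩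
  intro α β
  obtain ⟨σ, rfl⟩ := hs α
  obtain ⟨τ, rfl⟩ := hs β
  by_cases ha : σ ∈ alternatingGroup (Fin 7)
  · exact .inl (key σ ha)
  by_cases hb : τ ∈ alternatingGroup (Fin 7)
  · exact .inr (.inl (key τ hb))
  refine .inr (.inr ?_)
  rw [← map_inv, ← map_mul]
  apply key
  rw [mul_mem_iff_of_index_two alternatingGroup.index_eq_two, inv_mem_iff]
  exact iff_of_false hb ha

/-- conjugation of subgroups -/
def cj (g : Perm (Fin 7)) (D : Subgroup (Perm (Fin 7))) : Subgroup (Perm (Fin 7)) := D.comap (MulAut.conj g).toMonoidHom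

theorem mem_cj {g x : Perm (Fin 7)} {D : Subgroup (Perm (Fin 7))} : x ∈ cj g D ↔ g * x * g⁻¹ ∈ D := Iff.rfl

theorem cj_F7 (g : Perm (Fin 7)) {D : Subgroup (Perm (Fin 7))} (hD : D ∈ F7) : cj g D ∈ F7 := by
  refine ⟨fun x hx => ?_, ?_⟩
  · have h := (inferInstance : A7.Normal).conj_mem _ (hD.1 hx) g⁻¹
    have e : g⁻¹ * (MulAut.conj g).toMonoidHom x * g⁻¹⁻¹ = x := by
      show g⁻¹ * (g * x * g⁻¹) * g⁻¹⁻¹ = x
      group
    rwa [e] at h
  · have h1 := (cj g D).card_mul_index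
    have h2 := D.card_mul_index
    rw [cj, D.index_comap_of_surjective (MulAut.conj g).surjective, ← h2, hD.2] at h1
    exact Nat.eq_of_mul_eq_mul_right (Nat.pos_of_ne_zero index_ne_zero_of_finite) h1

/-- the normaliser is even -/
theorem norm_le {D : Subgroup (Perm (Fin 7))} (hD : D ∈ F7) : normalizer (D : Set (Perm (Fin 7))) ≤ A7 := by
  classical
  by_contra hLA
  obtain ⟨L, hL⟩ : ∃ L, L = normalizer (D : Set (Perm (Fin 7))) := ⟨_, rfl⟩
  have hDL : D ≤ L := hL ▸ le_normalizer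
  have hA : ¬ A7 ≤ L := by
    intro h
    have hs : IsSimpleGroup A7 := alternatingGroup.isSimpleGroup (by simp)
    rw [hL] at h
    have hn : (D.subgroupOf A7).Normal := ⟨fun d hd a => (mem_normalizer_iff.1 (h a.2) d).1 hd⟩
    have hc := card_subgroupOf hD.1
    rcases hn.eq_bot_or_eq_top with h1 | h1
    · rw [h1, card_bot, hD.2] at hc
      omega
    · rw [h1, card_top, card_A7, hD.2] at hc
      omega
  obtain ⟨Y, hY⟩ := exists_Ys (p := 7) (D := D) (by rw [hD.2]; norm_num)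
  have h168 : Nat.card ↥(L ⊓ A7) = 168 := by
    rcases dich (D := L ⊓ A7) (Y := Y) inf_le_right (fun h => hA (h.trans inf_le_left))
      ⟨hY.1.trans (le_inf hDL hD.1), hY.2⟩ with h | h
    · have h1 := (card_dvd_of_le ((le_inf hDL hD.1).trans h)).trans (card_norm_dvd hY.2)
      rw [hD.2] at h1
      norm_num at h1
    · exact h.1
  rw [← hL] at hLA
  have h5 : A7.relIndex L = 2 := by
    have h2 : A7.relIndex L ∣ A7.index := relIndex_dvd_index_of_normal _ _
    rw [alternatingGroup.index_eq_two] at h2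
    rcases (Nat.dvd_prime Nat.prime_two).1 h2 with h | h
    · rw [relIndex_eq_one] at h
      exact absurd h hLA
    · exact h
  have h336 : Nat.card L = 336 := by
    have h6 := card_mul_index (A7.subgroupOf L)
    rw [relIndex] at h5
    rw [h5, ← inf_subgroupOf_left, card_subgroupOf inf_le_left, h168] at h6
    exact h6.symm
  obtain ⟨R, hR⟩ := Sylow.exists_subgroup_card_pow_prime (G := L) 2 (n := 4) (by rw [h336]; norm_num)
  have hR' : Nat.card (R.map L.subtype) = 2 ^ 4 := by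
    rw [card_map_of_injective L.subtype_injective, hR]
  obtain ⟨g, hg⟩ := conj_mem_of_card (p := 2) (n := 4) (k := 315) (by rw [card_P7]; norm_num) (by norm_num)
    (R.map L.subtype) hR' (swap (0 : Fin 7) 1) (orderOf_eq_prime (by decide) (by decide))
  have hgL : g * swap (0 : Fin 7) 1 * g⁻¹ ∈ L := by
    obtain ⟨x, -, hx⟩ := hg
    rw [← hx]
    exact x.2
  have hsw : (g * swap (0 : Fin 7) 1 * g⁻¹).IsSwap := by
    rw [← swap_apply_apply]
    exact Perm.swap_isSwap_iff.2 (fun h => absurd (g.injective h) (by decide))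
  have htop : L = ⊤ := Perm.subgroup_eq_top_of_swap_mem (by norm_num) (by
    rw [← Nat.card_eq_fintype_card (α := L), h336, Fintype.card_fin]
    norm_num) hgL hsw
  exact hA (htop ▸ le_top)

/-- translation -/
def t7 : Perm (Fin 7) := ⟨![1, 2, 3, 4, 5, 6, 0], ![6, 0, 1, 2, 3, 4, 5], by decide, by decide⟩

/-- negation -/
def n7 : Perm (Fin 7) := ⟨![0, 6, 5, 4, 3, 2, 1], ![0, 6, 5, 4, 3, 2, 1], by decide, by decide⟩

theorem ord_t7 : orderOf t7 = 7 := orderOf_eq_prime (by decide) (by decide)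

theorem n7_t7 : n7 * t7 * n7⁻¹ = t7⁻¹ := by decide

theorem n7_sq : n7 * n7 = 1 := by decide

theorem n7_odd : n7 ∉ A7 := by
  rw [Perm.mem_alternatingGroup]
  decide

theorem cj_cj (D : Subgroup (Perm (Fin 7))) : cj n7 (cj n7 D) = D := by
  ext x
  rw [mem_cj, mem_cj, show n7 * (n7 * x * n7⁻¹) * n7⁻¹ = (n7 * n7) * x * (n7 * n7)⁻¹ by group, n7_sq, one_mul, inv_one,
    mul_one]

theorem cj_ne {D : Subgroup (Perm (Fin 7))} (hD : D ∈ F7) : cj n7 D ≠ D := fun h =>
  n7_odd (norm_le hD (mem_normalizer_iff.2 fun x => by rw [← mem_cj, h]))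

theorem two_over {D E : Subgroup (Perm (Fin 7))} (hD : D ∈ F7) (hE : E ∈ F7) (tD : t7 ∈ D) (tE : t7 ∈ E) :
    E = D ∨ E = cj n7 D := by
  classical
  by_contra hn
  push Not at hn
  have h3 := ncard_F7_Y (Y := zpowers t7) (by rw [Nat.card_zpowers, ord_t7])
  have ht : ∀ {K : Subgroup (Perm (Fin 7))}, t7 ∈ K → t7 ∈ cj n7 K := fun h => by
    rw [mem_cj, n7_t7]
    exact inv_mem h
  have h4 : ({D, cj n7 D, E, cj n7 E} : Set (Subgroup (Perm (Fin 7)))) ⊆ {K | K ∈ F7 ∧ zpowers t7 ≤ K} := by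
    rintro K (rfl | rfl | rfl | rfl)
    · exact ⟨hD, zpowers_le.2 tD⟩
    · exact ⟨cj_F7 _ hD, zpowers_le.2 (ht tD)⟩
    · exact ⟨hE, zpowers_le.2 tE⟩
    · exact ⟨cj_F7 _ hE, zpowers_le.2 (ht tE)⟩
  have h5 := (Set.ncard_le_ncard h4 (Set.toFinite _)).trans h3
  have n1 : D ≠ cj n7 E := fun h => hn.2 (by rw [h, cj_cj])
  have n2 : cj n7 D ≠ cj n7 E := fun h => hn.1 (by rw [← cj_cj E, ← h, cj_cj])
  rw [Set.ncard_insert_of_notMem (by simp [(cj_ne hD).symm, hn.1.symm, n1]),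
    Set.ncard_insert_of_notMem (by simp [hn.2.symm, n2]), Set.ncard_pair (cj_ne hE).symm] at h5
  omega

theorem exists_t7 {D : Subgroup (Perm (Fin 7))} (hD : D ∈ F7) : ∃ g, t7 ∈ cj g D := by
  obtain ⟨Y, hY⟩ := exists_Ys (p := 7) (D := D) (by rw [hD.2]; norm_num)
  obtain ⟨g, hg⟩ := conj_mem_of_card (p := 7) (n := 1) (k := 720) (by rw [card_P7]; norm_num) (by norm_num) Y
    (by rw [hY.2]; norm_num) t7 ord_t7
  exact ⟨g, hY.1 hg⟩

/-- **one class in `S₇`** -/
theorem F7_conj {D E : Subgroup (Perm (Fin 7))} (hD : D ∈ F7) (hE : E ∈ F7) : ∃ g, D = cj g E := by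
  obtain ⟨a, ha⟩ := exists_t7 hD
  obtain ⟨b, hb⟩ := exists_t7 hE
  rcases two_over (cj_F7 b hE) (cj_F7 a hD) hb ha with h | h
  · refine ⟨b * a⁻¹, Subgroup.ext fun x => ?_⟩
    have h1 : a⁻¹ * x * a ∈ cj a D ↔ a⁻¹ * x * a ∈ cj b E := by rw [h]
    rw [mem_cj, mem_cj, show a * (a⁻¹ * x * a) * a⁻¹ = x by group] at h1
    rw [h1, mem_cj, show b * a⁻¹ * x * (b * a⁻¹)⁻¹ = b * (a⁻¹ * x * a) * b⁻¹ by group]
  · refine ⟨b * n7 * a⁻¹, Subgroup.ext fun x => ?_⟩
    have h1 : a⁻¹ * x * a ∈ cj a D ↔ a⁻¹ * x * a ∈ cj n7 (cj b E) := by rw [h]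
    rw [mem_cj, mem_cj, mem_cj, show a * (a⁻¹ * x * a) * a⁻¹ = x by group] at h1
    rw [h1, mem_cj,
      show b * n7 * a⁻¹ * x * (b * n7 * a⁻¹)⁻¹ = b * (n7 * (a⁻¹ * x * a) * n7⁻¹) * b⁻¹ by group]

theorem rowAt_seven : RowAt (alternatingGroup (Fin 7)) 15 := by
  have key : ∀ A : Subgroup (alternatingGroup (Fin 7)), A.index = 15 → A.map A7.subtype ∈ F7 := fun A hA => by
    refine ⟨map_subtype_le A, ?_⟩
    have h := A.card_mul_index
    rw [hA, card_A7] at h
    rw [card_map_of_injective A7.subtype_injective]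
    exact Nat.eq_of_mul_eq_mul_right (by norm_num : 0 < 15) h
  have mem : ∀ (A : Subgroup (alternatingGroup (Fin 7))) (t : alternatingGroup (Fin 7)),
      (t : Perm (Fin 7)) ∈ A.map A7.subtype ↔ t ∈ A := fun A t => mem_map_iff_mem A7.subtype_injective
  intro A B hA hB
  obtain ⟨g, hg⟩ := F7_conj (key A hA) (key B hB)
  refine ⟨MulAut.conjNormal g, fun t => ?_⟩
  rw [← mem, ← mem, hg, mem_cj]
  rfl

/-- **`L₂(11)` of degree 11, `A₇` of degree 15** -/
theorem boxSm : BoxSm := fun _ _ =>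
  ⟨fun _ _ _ hF ⟨e⟩ =>
    have h := row_of_rowAt (RowAt.of_equiv e (H561.PPow.rowAt_psl_eleven hF)) (by norm_num)
    ⟨h, two_of_row h (by norm_num) (Out2.of_equiv e (out2_eleven hF))⟩,
  fun ⟨e⟩ =>
    have h := row_of_rowAt (RowAt.of_equiv e rowAt_seven) (by norm_num)
    ⟨h, two_of_row h (by norm_num) (Out2.of_equiv e out2_seven)⟩⟩

end Cfsg.Agent.SM.Alt.Mat
end

-- part: SM/Alt/Lin
section
/-!
# SM (S3570), alternating socle: the lines of `L_d(q)` (helper39)
-/

set_option autoImplicit false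

namespace Cfsg.Agent.SM.Alt

open Matrix MulAction Cfsg.Agent.ClassicalGeometry.AutPSL.Root Cfsg.Agent.H561.PPSL
open scoped LinearAlgebra.Projectivization

namespace LinB

theorem trans {T Δ : Type} [Group T] [MulAction T Δ] {c : ℕ} (h : Act T Δ c) (hc : 1 < c) : IsPretransitive T Δ := by
  have := h.fin
  have : Nontrivial Δ := Finite.one_lt_card_iff_nontrivial.1 (h.card ▸ hc)
  refine ⟨fun x y => ?_⟩
  obtain ⟨b, hb⟩ := exists_ne x
  obtain ⟨b', hb'⟩ := exists_ne y
  obtain ⟨t, ht, -⟩ := h.two x b y b' hb.symm hb'.symm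
  exact ⟨t, ht⟩

variable {ι F : Type} [Fintype ι] [DecidableEq ι] [Field F]

theorem pow_smul_eigen {g : Matrix.SpecialLinearGroup ι F} {v : ι → F} {l : F} (h : l • v = g • v) (n : ℕ) :
    g ^ n • v = l ^ n • v := by
  induction n with
  | zero => rw [pow_zero, pow_zero, one_smul, one_smul]
  | succ n ih => rw [pow_succ, mul_smul, ← h, smul_comm, ih, smul_smul, pow_succ']

/-- a `p`-element which fixes two points fixes the line -/
theorem fix_add {p : ℕ} [Fact p.Prime] [CharP F p] {g : Matrix.SpecialLinearGroup ι F}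
    (hg : g ^ p ∈ Subgroup.center (Matrix.SpecialLinearGroup ι F)) {u v : ι → F} (hu : u ≠ 0) (hv : v ≠ 0) (hw : u + v ≠ 0)
    (h1 : g • Projectivization.mk F u hu = Projectivization.mk F u hu)
    (h2 : g • Projectivization.mk F v hv = Projectivization.mk F v hv) :
    g • Projectivization.mk F (u + v) hw = Projectivization.mk F (u + v) hw := by
  rw [Projectivization.smul_mk, Projectivization.mk_eq_mk_iff'] at h1 h2 ⊢
  obtain ⟨l, h1⟩ := h1
  obtain ⟨m, h2⟩ := h2
  obtain ⟨z, -, hz⟩ := Matrix.SpecialLinearGroup.mem_center_iff.1 hg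
  have h3 : ∀ x : ι → F, g ^ p • x = z • x := fun x => by
    rw [H79.MinIdxSL.smul_eq_mulVec', ← hz, scalar_apply, diagonal_const_mulVec]
  have h4 := smul_left_injective F hu ((pow_smul_eigen h1 p).symm.trans (h3 u))
  have h5 := smul_left_injective F hv ((pow_smul_eigen h2 p).symm.trans (h3 v))
  have h6 : l = m := frobenius_inj F p (h4.trans h5.symm)
  exact ⟨l, by rw [smul_add, smul_add, h1, h6, h2]⟩

theorem tv_pow {i j : ι} (hij : i ≠ j) (n : ℕ) :
    Matrix.SpecialLinearGroup.transvection hij (1 : F) ^ n = Matrix.SpecialLinearGroup.transvection hij (n : F) := by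
  induction n with
  | zero => rw [pow_zero, Nat.cast_zero, Matrix.SpecialLinearGroup.transvection_coeff_zero]
  | succ n ih => rw [pow_succ, ih, Nat.cast_succ, Matrix.SpecialLinearGroup.transvection_add]

theorem tv_fix {i j k : ι} (hij : i ≠ j) (hk : k ≠ j) :
    Matrix.SpecialLinearGroup.transvection hij (1 : F) • (Pi.single k 1 : ι → F) = Pi.single k 1 := by
  simp [Matrix.SpecialLinearGroup.smul_def, -mulVec_single, Matrix.SpecialLinearGroup.transvection_coe, add_mulVec, single_mulVec_eq, hk]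

omit [Fintype ι] [DecidableEq ι] in
theorem mk_ne {u v : ι → F} (hu : u ≠ 0) (hv : v ≠ 0) {i : ι} (h1 : u i ≠ 0) (h2 : v i = 0) :
    Projectivization.mk F u hu ≠ Projectivization.mk F v hv := fun h => by
  obtain ⟨l, hl⟩ := (Projectivization.mk_eq_mk_iff' F u v hu hv).1 h
  exact h1 (by rw [← hl, Pi.smul_apply, h2, smul_zero])

end LinB

open LinB

/-- **[Lin]** -/
theorem boxLin : BoxLin := by
  intro T _ F _ _ d c hd ⟨e⟩ hc Δ _ h
  have hq : 1 < Fintype.card F := Fintype.one_lt_card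
  have hc1 : 1 < c := by
    have h1 : Fintype.card F ^ 1 < Fintype.card F ^ d := Nat.pow_lt_pow_right hq (by omega)
    rw [pow_one] at h1
    by_contra h2
    have h3 : c * (Fintype.card F - 1) ≤ 1 * (Fintype.card F - 1) := Nat.mul_le_mul_right _ (by omega)
    omega
  have := _root_.Cfsg.Agent.SM.Alt.LinB.trans h hc1
  have := h.fin
  obtain ⟨a⟩ : Nonempty Δ := (Nat.card_pos_iff.1 (h.card ▸ (by omega : 0 < c))).1
  obtain ⟨γ, hγ⟩ := psl_point (by omega : 2 ≤ d) ((stabilizer T a).comap e.symm.toMonoidHom) (by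
    rw [Subgroup.index_comap_of_surjective _ e.symm.surjective, index_stabilizer_of_transitive, h.card, hc])
  let π : Matrix.SpecialLinearGroup (Fin d) F →* T := (e.symm.toMonoidHom.comp γ.symm.toMonoidHom).comp pr
  have hπ : Function.Surjective π := (e.symm.surjective.comp γ.symm.surjective).comp pr_surjective
  have h1 : ∀ g, π g = 1 ↔ g ∈ Subgroup.center _ := fun g => by
    rw [← pr_eq_one_iff]
    exact (map_eq_one_iff _ e.symm.injective).trans (map_eq_one_iff _ γ.symm.injective)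
  have h2 : ∀ g, π g • a = a ↔ g • pt d F ⟨0, by omega⟩ = pt d F ⟨0, by omega⟩ := fun g =>
    (hγ (γ.symm (pr g))).trans (by rw [γ.apply_symm_apply]; exact pr_mem_PP _)
  have h3 : ∀ g g', π g • a = π g' • a ↔ g • pt d F ⟨0, by omega⟩ = g' • pt d F ⟨0, by omega⟩ := fun g g' => by
    rw [← inv_smul_eq_iff, ← inv_smul_eq_iff (g := g'), ← mul_smul, ← mul_smul, ← map_inv, ← map_mul, h2]
  obtain ⟨p, hp⟩ := CharP.exists F
  have := Fact.mk (CharP.char_is_prime F p)
  have n01 : (⟨0, by omega⟩ : Fin d) ≠ ⟨1, by omega⟩ := by simp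
  have n02 : (⟨0, by omega⟩ : Fin d) ≠ ⟨2, by omega⟩ := by simp
  have n12 : (⟨1, by omega⟩ : Fin d) ≠ ⟨2, by omega⟩ := by simp
  have hs : ∀ i : Fin d, (Pi.single i 1 : Fin d → F) ≠ 0 := fun i h => one_ne_zero (α := F) (by simpa using congrFun h i)
  have hw : (Pi.single ⟨0, by omega⟩ 1 + Pi.single ⟨1, by omega⟩ 1 : Fin d → F) ≠ 0 := fun h =>
    one_ne_zero (α := F) (by simpa [Pi.single_eq_of_ne n01] using congrFun h ⟨0, by omega⟩)
  obtain ⟨g₁, hg₁⟩ := exists_smul_eq (Matrix.SpecialLinearGroup (Fin d) F) (pt d F ⟨0, by omega⟩) (pt d F ⟨1, by omega⟩)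
  obtain ⟨g₂, hg₂⟩ := exists_smul_eq (Matrix.SpecialLinearGroup (Fin d) F) (pt d F ⟨0, by omega⟩) (Projectivization.mk F _ hw)
  have h4 : ∀ g g', π g • π g' • a = π g' • a ↔ g • g' • pt d F ⟨0, by omega⟩ = g' • pt d F ⟨0, by omega⟩ := fun g g' => by
    rw [← mul_smul, ← map_mul, h3, mul_smul]
  refine ⟨p, a, π g₁ • a, π g₂ • a, fun h5 => ?_, fun h5 => ?_, fun h5 => ?_, fun t ht h5 h6 => ?_,
    π (Matrix.SpecialLinearGroup.transvection n02 1), fun h5 => ?_, ?_, ?_, ?_⟩
  · exact mk_ne (hs _) (hs _) (i := ⟨1, by omega⟩) (by simp) (Pi.single_eq_of_ne n01.symm _)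
      (hg₁.symm.trans ((h2 _).1 h5.symm))
  · exact mk_ne hw (hs _) (i := ⟨1, by omega⟩) (by simp) (Pi.single_eq_of_ne n01.symm _)
      (hg₂.symm.trans ((h2 _).1 h5))
  · exact mk_ne hw (hs _) (i := ⟨0, by omega⟩) (by simp) (Pi.single_eq_of_ne n01 _)
      (hg₂.symm.trans (((h3 _ _).1 h5).trans hg₁))
  · obtain ⟨g, rfl⟩ := hπ t
    rw [h4, hg₁] at h6
    rw [h4, hg₂]
    exact fix_add ((h1 _).1 (by rw [map_pow, ht])) (hs _) (hs _) hw ((h2 g).1 h5) h6
  · exact one_ne_zero ((Matrix.SpecialLinearGroup.transvection_mem_center_iff n02 (1 : F)).1 ((h1 _).1 h5))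
  · rw [← map_pow, tv_pow, CharP.cast_eq_zero, Matrix.SpecialLinearGroup.transvection_coeff_zero, map_one]
  · exact (h2 _).2 (mem_stab_pt (c := 1) ((tv_fix n02 n02).trans (one_smul _ _).symm))
  · rw [h4, hg₁]
    exact mem_stab_pt (c := 1) ((tv_fix n02 n12).trans (one_smul _ _).symm)

end Cfsg.Agent.SM.Alt
end

private theorem dce_e59edf2ea8f3 : _root_.True := by
  try have : _root_.True := by simp only [_root_.Cfsg.Agent.SM.Alt.HS.Or3.eq_1]
  try have : _root_.True := by simp only [_root_.Cfsg.Agent.SM.Alt.HS.w2.eq_1]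
  try have : _root_.True := by simp only [_root_.Cfsg.Agent.SM.Alt.Sp.Qf.eq_1]
  try have : _root_.True := by simp only [_root_.Cfsg.Agent.SM.Alt.Sp.eb.eq_1]
  try have : _root_.True := by simp only [_root_.Cfsg.Agent.SM.Alt.HS.w1.eq_1]
  try have : _root_.True := by simp only [_root_.Cfsg.Agent.Nodes.Reps.Rp.congr_simp]
  try have : _root_.True := by simp only [_root_.Cfsg.Agent.SM.Alt.Sp.χ.eq_1]
  try have : _root_.True := by simp only [_root_.Cfsg.Agent.SM.Alt.Mat.cj.eq_1]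
  try have : _root_.True := by simp only [_root_.Cfsg.Agent.SM.Alt.HS.col.eq_1]
  try have : _root_.True := by simp only [_root_.Cfsg.Agent.SM.Alt.HS.w3.eq_1]
  try have : _root_.True := by simp only [_root_.Cfsg.Agent.SM.Alt.Sp.tv.eq_1]
  try have : _root_.True := by simp only [_root_.Cfsg.Agent.SM.Alt.HS.St.eq_1]
  exact _root_.True.intro
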